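import Cfsg.Agent.RudvalisType.Center

/-!
Odd order automorphisms of `T` are trivial, and `W` is the only subgroup of `T` isomorphic to `W`.
-/

namespace Cfsg.Agent.RudvalisType

open Subgroup

variable {T : Type*} [Group T] [Finite T] {W : Subgroup T}

theorem mem_Z_iff (α : T ≃* T) (n : ℕ) (x : T) : α x ∈ Z T n ↔ x ∈ Z T n := by
  have e := (inferInstance : (Z T n).Characteristic).fixed α
  exact ⟨fun h => e ▸ h, fun h => by rw [← e] at h; exact h⟩

theorem Hyp.fixed_Z (h : Hyp T W) (α : T ≃* T) {q : ℕ} (hq : Odd q) (hα : (⇑α)^[q] = id) :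
    ∀ i ≤ 3, ∀ x ∈ Z T i, α x = x := by
  intro i hi
  induction i with
  | zero =>
    intro x hx
    rw [show Z T 0 = ⊥ from Subgroup.upperCentralSeries_zero T, mem_bot] at hx
    rw [hx, map_one]
  | succ i ih =>
    intro x hx
    by_cases hx0 : x ∈ Z T i
    · exact ih (by omega) x hx0
    have hd := h.mul_inv_mem (i := i) (by omega) hx hx0 ((mem_Z_iff α _ x).mpr hx)
      (fun e => hx0 ((mem_Z_iff α _ x).mp e))
    refine fixed_of_displacement_fixed h.hT α hq hα (ih (by omega) _ ?_)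
    have := Subgroup.Normal.conj_mem (inferInstance : (Z T i).Normal) _ hd x⁻¹
    simpa [mul_assoc] using this

/-- An automorphism of odd order of `T` is trivial. -/
theorem Hyp.fixed_of_odd (h : Hyp T W) (α : T ≃* T) {q : ℕ} (hq : Odd q)
    (hα : (⇑α)^[q] = id) (t : T) : α t = t := by
  classical
  have hn := h.normal
  have h3 := h.fixed_Z α hq hα 3 le_rfl
  have hW : ∀ x ∈ W, α x ∈ W := fun x hx => h.mem_W_iff.mpr fun z hz => by
    conv_lhs => rw [← h3 z hz]
    conv_rhs => rw [← h3 z hz]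
    rw [← map_mul, ← map_mul, h.central hz hx]
  have hdW : ∀ t : T, t⁻¹ * α t ∈ W := fun t => h.mem_W_iff.mpr fun z hz => by
    have e : α (t * z * t⁻¹) = t * z * t⁻¹ :=
      h3 _ (Subgroup.Normal.conj_mem inferInstance z hz t)
    rw [map_mul, map_mul, map_inv, h3 z hz] at e
    have e' : α t * z = t * z * t⁻¹ * α t := mul_inv_eq_iff_eq_mul.mp e
    rw [mul_assoc t⁻¹, e']
    simp [mul_assoc]
  suffices hfix : ∀ x ∈ W, α x = x from fixed_of_displacement_fixed h.hT α hq hα (hfix _ (hdW t))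
  suffices hsmall : ∀ x ∈ W, x⁻¹ * α x ∈ Z T 3 from
    fun x hx => fixed_of_displacement_fixed h.hT α hq hα (h3 _ (hsmall x hx))
  by_contra hne
  push Not at hne
  obtain ⟨x₀, hx₀, hx₀'⟩ := hne
  let δ := h.disp α.toMonoidHom hW
  let I := (δ.range.comap (QuotientGroup.mk' ((Z T 3).subgroupOf W))).map W.subtype
  have hmemI : ∀ {y : T}, y ∈ I ↔ y ∈ W ∧ ∃ x ∈ W, (x⁻¹ * α x)⁻¹ * y ∈ Z T 3 := by
    intro y
    constructor
    · rintro ⟨w, ⟨x, hx⟩, rfl⟩
      refine ⟨w.2, x, x.2, ?_⟩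
      simpa [δ, Hyp.disp, QuotientGroup.eq, mem_subgroupOf] using hx
    · rintro ⟨hy, x, hx, e⟩
      refine ⟨⟨y, hy⟩, ⟨⟨x, hx⟩, ?_⟩, rfl⟩
      simpa [δ, Hyp.disp, QuotientGroup.eq, mem_subgroupOf] using e
  have : I.Normal := by
    refine ⟨fun y hy t => ?_⟩
    obtain ⟨hyW, x, hx, hc⟩ := hmemI.mp hy
    refine hmemI.mpr ⟨hn.conj_mem y hyW t, t * x * t⁻¹, hn.conj_mem x hx t, ?_⟩
    set w := t⁻¹ * α t
    have hw : w ∈ W := hdW t
    set c := w * α x * w⁻¹ * (α x)⁻¹ with hcdef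
    have hc3 : c ∈ Z T 3 := h.comm_mem hw (hW x hx)
    have e : (t * x * t⁻¹)⁻¹ * α (t * x * t⁻¹) = t * (c * (x⁻¹ * α x)) * t⁻¹ := by
      have hcx : c * (x⁻¹ * α x) = x⁻¹ * (c * α x) := by
        rw [← mul_assoc, h.central hc3 (inv_mem hx), mul_assoc]
      rw [hcx, hcdef, map_mul, map_mul, map_inv]
      simp [w, mul_assoc]
    rw [e, show (t * (c * (x⁻¹ * α x)) * t⁻¹)⁻¹ * (t * y * t⁻¹) =
      t * ((x⁻¹ * α x)⁻¹ * c⁻¹ * y) * t⁻¹ by simp [mul_assoc]]
    refine Subgroup.Normal.conj_mem inferInstance _ ?_ t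
    rw [← h.central (inv_mem hc3) (inv_mem (mul_mem (inv_mem hx) (hW x hx))), mul_assoc]
    exact mul_mem (inv_mem hc3) hc
  have h3I : Z T 3 ≤ I := fun z hz =>
    hmemI.mpr ⟨h.Z_le (by norm_num) hz, 1, one_mem _, by simpa using hz⟩
  have h16 : 2 ^ 4 ≤ Nat.card I := by
    obtain ⟨j, hj⟩ := IsPGroup.iff_card.mp (h.hT.to_subgroup I)
    have hlt : Nat.card (Z T 3) < Nat.card I := by
      refine Nat.lt_of_le_of_ne (card_le_of_le h3I) fun e => hx₀' ?_
      rw [eq_of_le_of_card_ge h3I e.ge]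
      exact hmemI.mpr ⟨mul_mem (inv_mem hx₀) (hW _ hx₀), x₀, hx₀, by simp⟩
    rw [h.card_Z (by norm_num), hj, Nat.pow_lt_pow_iff_right (by norm_num)] at hlt
    exact hj ▸ Nat.pow_le_pow_right (by norm_num) hlt
  obtain ⟨z4, hz4, hz4'⟩ := h.exists_gen (i := 3) (by norm_num)
  obtain ⟨-, x, hx, hc⟩ := hmemI.mp (h.le_of_normal le_rfl h16 hz4)
  set d := x⁻¹ * α x
  have hdz : z4⁻¹ * α z4 ∈ Z T 3 := by
    have := h.mul_inv_mem (i := 3) (by norm_num) hz4 hz4' ((mem_Z_iff α _ z4).mpr hz4)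
      (fun e => hz4' ((mem_Z_iff α _ z4).mp e))
    have := Subgroup.Normal.conj_mem (inferInstance : (Z T 3).Normal) _ this z4⁻¹
    simpa [mul_assoc] using this
  have hz4f : α z4 = z4 := fixed_of_displacement_fixed h.hT α hq hα (h3 _ hdz)
  have hdf : α d = d := by
    have e := h3 _ hc
    rw [map_mul, map_inv, hz4f] at e
    exact inv_injective (mul_right_cancel e)
  have hxf : α x = x := fixed_of_displacement_fixed h.hT α hq hα hdf
  have hd1 : d = 1 := by simp [d, hxf]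
  exact hz4' (by simpa [hd1] using hc)

/-- `W` is the only subgroup of `T` isomorphic to `W`. -/
theorem Hyp.eq_of_equiv (h : Hyp T W) {W₁ : Subgroup T} (e : W ≃* W₁) : W₁ = W := by
  classical
  have hn := h.normal
  have hb := h.base
  have hcard : Nat.card W₁ = Nat.card W := (Nat.card_congr e.toEquiv).symm
  have hY : (frattini W).map e.toMonoidHom = frattini W₁ := by
    refine le_antisymm (map_le_iff_le_comap.mpr
      (frattini_le_comap_frattini_of_surjective e.surjective)) fun y hy => ?_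
    have h1 := frattini_le_comap_frattini_of_surjective (φ := e.symm.toMonoidHom)
      e.symm.surjective hy
    exact ⟨e.symm y, h1, e.apply_symm_apply y⟩
  set Y := (frattini W₁).map W₁.subtype with hYdef
  have hYcard : Nat.card Y = 8 := by
    rw [hYdef, card_map_of_injective W₁.subtype_injective, ← hY,
      card_map_of_injective e.injective, ← card_map_of_injective W.subtype_injective, hb.2.2.2,
      h.card_Z (by norm_num)]
    norm_num
  have hYcen : ∀ y ∈ Y, ∀ w ∈ W₁, y * w = w * y := by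
    rintro _ ⟨y', hy', rfl⟩ w hw
    rw [← hY] at hy'
    obtain ⟨v, hv, rfl⟩ := hy'
    obtain ⟨u, hu⟩ := e.surjective ⟨w, hw⟩
    have hv' : v ∈ center W := by rw [h.center_eq]; exact hv
    have := congrArg (fun g => ((e g : W₁) : T)) (mem_center_iff.mp hv' u)
    simp only [map_mul, coe_mul, hu] at this
    exact this.symm
  by_contra hne
  have hZY : ¬ Z T 3 ≤ Y := fun hle => hne (eq_of_le_of_card_ge (fun w hw => by
    refine h.mem_W_iff.mpr fun z hz => hYcen z (hle hz) w hw) hcard.ge)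
  set D := W ⊓ W₁ with hD
  have hDcard : Nat.card W ≤ 8 * Nat.card D := by
    have h1 : (D.subgroupOf W₁).index ∣ 8 := by
      have : D.subgroupOf W₁ = W.subgroupOf W₁ := by rw [hD, inf_subgroupOf_right]
      rw [this, ← hb.2.1]
      exact relIndex_dvd_index_of_normal (H := W) (K := W₁)
    have h2 := card_mul_index (D.subgroupOf W₁)
    rw [Nat.card_congr (subgroupOfEquivOfLe (inf_le_right : D ≤ W₁)).toEquiv, hcard] at h2
    have := Nat.le_of_dvd (by norm_num) h1
    calc Nat.card W = Nat.card D * (D.subgroupOf W₁).index := h2.symm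
      _ ≤ Nat.card D * 8 := Nat.mul_le_mul_left _ this
      _ = _ := mul_comm _ _
  have h3D : Z T 3 ≤ D := hb.2.2.2 ▸ h.hd' inf_le_left (by omega)
  obtain ⟨z, hz, hzY⟩ := SetLike.not_le_iff_exists.mp hZY
  set K := Z T 3 ⊓ Y
  have hKD : K ≤ D := inf_le_left.trans h3D
  have hsq : ∀ x ∈ D, x * x ∈ K := by
    intro x hx
    have hp : IsPGroup 2 W₁ := h.hT.to_subgroup W₁
    exact ⟨h.sq_mem hx.1, ⟨(⟨x, hx.2⟩ : W₁) ^ 2, Core.pow_mem_frattini hp _, by simp [pow_two]⟩⟩
  obtain ⟨U, hU, hKU, hzU⟩ := exists_half hKD hsq (h3D hz) (fun hk => hzY hk.2)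
  have hUcard : Nat.card D ≤ 2 * Nat.card U := by
    have h2 : (U.subgroupOf D).index ≤ 2 := by
      refine le_of_eq (index_eq_two_iff'.mpr ⟨⟨z, h3D hz⟩, fun b => ?_⟩)
      have := hU.iff z (h3D hz) b b.2
      simp only [mem_subgroupOf, coe_mul, this, hzU, false_iff]
      by_cases hb : (b : T) ∈ U <;> simp [hb, Xor]
    have e := card_mul_index (U.subgroupOf D)
    rw [Nat.card_congr (subgroupOfEquivOfLe hU.le).toEquiv] at e
    calc Nat.card D = Nat.card U * (U.subgroupOf D).index := e.symm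
      _ ≤ Nat.card U * 2 := Nat.mul_le_mul_left _ h2
      _ = _ := mul_comm _ _
  exact hzU ((hb.2.2.2 ▸ h.hd' (hU.le.trans inf_le_left) (by omega)) hz)

end Cfsg.Agent.RudvalisType
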