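import Mathlib

/-!
Generic lemmas for groups with squares in a small subgroup, used for the 2-groups of Rudvalis type:
index two subgroups avoiding an element, avoiding subgroups in groups with central Frattini subgroup
of order 2, and automorphisms of odd order of 2-groups.
-/

namespace Cfsg.Agent.RudvalisType

open Subgroup

variable {G : Type*} [Group G]

theorem comm_mem_of_sq {N : Subgroup G} (h : ∀ x : G, x ^ 2 ∈ N) (a b : G) :
    a * b * a⁻¹ * b⁻¹ ∈ N := by
  have e : a * b * a⁻¹ * b⁻¹ = a ^ 2 * (a⁻¹ * b) ^ 2 * (b⁻¹) ^ 2 := by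
    simp [pow_two, mul_assoc]
  rw [e]
  exact mul_mem (mul_mem (h _) (h _)) (h _)

theorem normal_of_sq {N : Subgroup G} (h : ∀ x : G, x ^ 2 ∈ N) : N.Normal := by
  refine ⟨fun n hn g => ?_⟩
  have e : g * n * g⁻¹ = g * n * g⁻¹ * n⁻¹ * n := by group
  rw [e]
  exact mul_mem (comm_mem_of_sq h g n) hn

theorem exists_index_two [Finite G] {N : Subgroup G} (hN : ∀ x : G, x ^ 2 ∈ N) {z : G}
    (hz : z ∉ N) : ∃ U : Subgroup G, U.index = 2 ∧ N ≤ U ∧ z ∉ U := by
  obtain ⟨U, hU, hmax⟩ :=
    (Set.toFinite {U : Subgroup G | N ≤ U ∧ z ∉ U}).exists_maximal ⟨N, le_rfl, hz⟩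
  obtain ⟨hNU, hzU⟩ := hU
  have hsq : ∀ x : G, x ^ 2 ∈ U := fun x => hNU (hN x)
  have := normal_of_sq hsq
  refine ⟨U, index_eq_two_iff'.mpr ⟨z, fun b => ?_⟩, hNU, hzU⟩
  by_cases hb : b ∈ U
  · refine Or.inr ⟨hb, fun h => hzU ?_⟩
    simpa using mul_mem h (inv_mem hb)
  · refine Or.inl ⟨?_, hb⟩
    have hzb : z ∈ U ⊔ zpowers b := by
      by_contra h
      exact hb (hmax ⟨hNU.trans le_sup_left, h⟩ le_sup_left (mem_sup_right (mem_zpowers b)))
    obtain ⟨u, hu, q, hq, rfl⟩ := mem_sup_of_normal_left.mp hzb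
    obtain ⟨n, rfl⟩ := hq
    rcases Int.even_or_odd' n with ⟨j, rfl | rfl⟩
    · refine absurd (mul_mem hu ?_) hzU
      show b ^ (2 * j) ∈ U
      rw [zpow_mul, zpow_ofNat]
      exact zpow_mem (hsq b) j
    · have e : u * b ^ (2 * j + 1) * b = u * (b ^ (2 : ℕ)) ^ (j + 1) := by
        rw [mul_assoc, ← zpow_add_one, ← zpow_natCast b 2, ← zpow_mul]
        congr 2
        push_cast
        ring
      show u * b ^ (2 * j + 1) * b ∈ U
      rw [e]
      exact mul_mem hu (zpow_mem (hsq b) _)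

/-- In a finite group, a subgroup of order exceeding half of an overgroup's is equal to it. -/
theorem eq_of_le_of_lt_card [Finite G] {A B : Subgroup G} (h : A ≤ B) {i : ℕ}
    (hB : Nat.card B = 2 ^ (i + 1)) (hA : 2 ^ i < Nat.card A) : A = B := by
  have hd : Nat.card A ∣ 2 ^ (i + 1) := by rw [← hB]; exact card_dvd_of_le h
  obtain ⟨j, hj, e⟩ := (Nat.dvd_prime_pow Nat.prime_two).mp hd
  have : i < j := (Nat.pow_lt_pow_iff_right (by norm_num)).mp (e ▸ hA)
  refine eq_of_le_of_card_ge h ?_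
  rw [hB, e, show j = i + 1 by omega]

/-- Data for a group with squares and commutators in `{1, c}`. -/
structure Thin (c : G) : Prop where
  ne_one : c ≠ 1
  sq_one : c * c = 1
  central : c ∈ center G
  sq : ∀ x : G, x * x = 1 ∨ x * x = c
  comm : ∀ x y : G, x * y = y * x ∨ x * y = y * x * c

variable {c : G}

theorem Thin.card_le [Finite G] (h : Thin c) {A C : Subgroup G} (hAC : A ≤ C)
    (hcA : c ∉ A) (hcC : c ∈ C) (hCA : ∀ x ∈ C, ∀ a ∈ A, x * a = a * x)
    (hmax : ∀ x ∈ C, c ∈ A ⊔ zpowers x ∨ x ∈ A) :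
    Nat.card C ≤ 8 * Nat.card A ∧
      ((∀ x ∈ C, ∀ y ∈ C, x * y = y * x) → Nat.card C ≤ 4 * Nat.card A) := by
  classical
  let S : Set G := {x | ∃ a ∈ A, x = a ∨ x = a * c}
  have hc := mem_center_iff.mp h.central
  have hA2 : ∀ a ∈ A, a * a = 1 := fun a ha =>
    (h.sq a).resolve_right fun e => hcA (e ▸ mul_mem ha ha)
  -- outside `S` every element of `C` squares to `c`
  have key : ∀ x ∈ C, x ∉ S → x * x = c := by
    intro x hx hxS
    refine (h.sq x).resolve_left fun e => ?_
    rcases hmax x hx with hc' | hxA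
    · let H : Subgroup G :=
        { carrier := {y | ∃ a ∈ A, y = a ∨ y = a * x}
          one_mem' := ⟨1, one_mem _, Or.inl rfl⟩
          mul_mem' := by
            rintro y y' ⟨a, ha, rfl | rfl⟩ ⟨b, hb, rfl | rfl⟩
            · exact ⟨_, mul_mem ha hb, Or.inl rfl⟩
            · exact ⟨_, mul_mem ha hb, Or.inr (mul_assoc _ _ _).symm⟩
            · refine ⟨_, mul_mem ha hb, Or.inr ?_⟩
              rw [mul_assoc, hCA x hx _ hb, ← mul_assoc]
            · refine ⟨_, mul_mem ha hb, Or.inl ?_⟩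
              calc a * x * (b * x) = a * (x * b) * x := by simp [mul_assoc]
                _ = a * b * (x * x) := by rw [hCA x hx _ hb]; simp [mul_assoc]
                _ = a * b := by rw [e, mul_one]
          inv_mem' := by
            rintro y ⟨a, ha, rfl | rfl⟩
            · exact ⟨_, inv_mem ha, Or.inl rfl⟩
            · refine ⟨_, inv_mem ha, Or.inr ?_⟩
              rw [mul_inv_rev, inv_eq_of_mul_eq_one_right e]
              exact hCA x hx _ (inv_mem ha) }
      have hle : A ⊔ zpowers x ≤ H := sup_le (fun a ha => ⟨a, ha, Or.inl rfl⟩)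
        (zpowers_le.mpr ⟨1, one_mem _, Or.inr (one_mul x).symm⟩)
      obtain ⟨a, ha, e' | e'⟩ := hle hc'
      · exact hcA (e'.symm ▸ ha)
      · refine hxS ⟨a⁻¹, inv_mem ha, Or.inr ?_⟩
        rw [e', inv_mul_cancel_left]
    · exact hxS ⟨x, hxA, Or.inl rfl⟩
  have close : ∀ x ∈ C, ∀ y ∈ C, x ∉ S → y ∉ S → x * y = y * x → x * y ∈ S := by
    intro x hx y hy hxS hyS hxy
    by_contra hn
    have e := key _ (mul_mem hx hy) hn
    have e2 : x * y * (x * y) = x * x * (y * y) := by
      calc x * y * (x * y) = x * (y * x) * y := by simp [mul_assoc]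
        _ = x * x * (y * y) := by rw [← hxy]; simp [mul_assoc]
    rw [e2, key x hx hxS, key y hy hyS, h.sq_one] at e
    exact h.ne_one e.symm
  -- `S` is closed under multiplication by elements of `S`
  have hS : ∀ s ∈ S, ∀ t ∈ S, s * t ∈ S := by
    rintro s ⟨a, ha, e | e⟩ t ⟨b, hb, e' | e'⟩ <;> rw [e, e']
    · exact ⟨_, mul_mem ha hb, Or.inl rfl⟩
    · exact ⟨_, mul_mem ha hb, Or.inr (mul_assoc _ _ _).symm⟩
    · exact ⟨_, mul_mem ha hb, Or.inr (by rw [mul_assoc, ← hc b, ← mul_assoc])⟩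
    · refine ⟨_, mul_mem ha hb, Or.inl ?_⟩
      calc a * c * (b * c) = a * (c * b) * c := by simp [mul_assoc]
        _ = a * b * (c * c) := by rw [← hc b]; simp [mul_assoc]
        _ = a * b := by rw [h.sq_one, mul_one]
  have hSi : ∀ s ∈ S, s⁻¹ ∈ S := by
    rintro s ⟨a, ha, rfl | rfl⟩
    · exact ⟨_, inv_mem ha, Or.inl rfl⟩
    · refine ⟨_, inv_mem ha, Or.inr ?_⟩
      rw [mul_inv_rev, inv_eq_of_mul_eq_one_right h.sq_one, hc a⁻¹]
  have h1S : (1 : G) ∈ S := ⟨1, one_mem _, Or.inl rfl⟩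
  -- at most four cosets of `S`
  have cover : ∃ x ∈ C, ∃ y ∈ C, (∀ w ∈ C, ∃ s ∈ S, w = s ∨ w = x * s ∨ w = y * s ∨ w = x * y * s) ∧
      ((∀ u ∈ C, ∀ v ∈ C, u * v = v * u) → y = 1) := by
    by_cases hx : ∀ x ∈ C, x ∈ S
    · exact ⟨1, one_mem _, 1, one_mem _, fun w hw => ⟨w, hx w hw, Or.inl rfl⟩, fun _ => rfl⟩
    push Not at hx
    obtain ⟨x, hx, hxS⟩ := hx
    by_cases hy : ∀ y ∈ C, y ∈ S ∨ x⁻¹ * y ∈ S
    · refine ⟨x, hx, 1, one_mem _, fun w hw => ?_, fun _ => rfl⟩
      rcases hy w hw with h' | h'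
      · exact ⟨w, h', Or.inl rfl⟩
      · exact ⟨_, h', Or.inr (Or.inl (by group))⟩
    push Not at hy
    obtain ⟨y, hy, hyS, hxy⟩ := hy
    have inv_close : ∀ u ∈ C, ∀ v ∈ C, u ∉ S → v ∉ S → u * v = v * u → u⁻¹ * v ∈ S := by
      intro u hu v hv huS hvS huv
      have e := close u hu v hv huS hvS huv
      have : u⁻¹ * v = u * v * (u * u)⁻¹ := by
        have hc' : u⁻¹ * v = v * u⁻¹ := Commute.inv_left huv
        rw [hc', huv]; group
      rw [this, key u hu huS]
      refine hS _ e _ (hSi _ ⟨1, one_mem _, Or.inr (one_mul c).symm⟩)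
    refine ⟨x, hx, y, hy, fun w hw => ?_, fun hcomm => absurd (inv_close x hx y hy hxS hyS
      (hcomm x hx y hy)) hxy⟩
    by_contra hn
    push Not at hn
    have hw1 : w ∉ S := fun h' => (hn w h').1 rfl
    have hw2 : x⁻¹ * w ∉ S := fun h' => (hn _ h').2.1 (by group)
    have hw3 : y⁻¹ * w ∉ S := fun h' => (hn _ h').2.2.1 (by group)
    have hw4 : (x * y)⁻¹ * w ∉ S := fun h' => (hn _ h').2.2.2 (by group)
    have cm : ∀ u ∈ C, ∀ v ∈ C, u ∉ S → v ∉ S → u⁻¹ * v ∉ S → u * v = v * u * c :=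
      fun u hu v hv huS hvS huv =>
        (h.comm u v).resolve_left fun e => huv (inv_close u hu v hv huS hvS e)
    have e1 := cm x hx y hy hxS hyS hxy
    have e2 := cm x hx w hw hxS hw1 hw2
    have e3 : x * (y * w) = y * w * x := by
      calc x * (y * w) = x * y * w := (mul_assoc _ _ _).symm
        _ = y * x * (c * w) := by rw [e1]; simp [mul_assoc]
        _ = y * (x * w) * c := by rw [← hc w]; simp [mul_assoc]
        _ = y * (w * x) * (c * c) := by rw [e2]; simp [mul_assoc]
        _ = y * w * x := by rw [h.sq_one, mul_one, mul_assoc]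
    have hywS : y * w ∉ S := by
      intro h'
      refine hw3 ?_
      have : y⁻¹ * w = (y * y)⁻¹ * (y * w) := by group
      rw [this, key y hy hyS]
      exact hS _ (hSi _ ⟨1, one_mem _, Or.inr (one_mul c).symm⟩) _ h'
    have e4 := inv_close x hx (y * w) (mul_mem hy hw) hxS hywS e3
    refine hw4 ?_
    have : (x * y)⁻¹ * w = (y * y)⁻¹ * (y * x⁻¹ * y⁻¹ * x) * (x⁻¹ * (y * w)) := by group
    rw [this]
    refine hS _ (hS _ (hSi _ ?_) _ ?_) _ e4
    · rw [key y hy hyS]; exact ⟨1, one_mem _, Or.inr (one_mul c).symm⟩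
    · refine ⟨1, one_mem _, ?_⟩
      rw [one_mul]
      rcases h.comm y x⁻¹ with e | e
      · left; rw [e]; group
      · right; rw [e, mul_assoc (x⁻¹ * y), ← hc y⁻¹]
        calc x⁻¹ * y * (y⁻¹ * c) * x = x⁻¹ * c * x := by group
          _ = c := by rw [hc x⁻¹, mul_assoc, inv_mul_cancel, mul_one]
  obtain ⟨x, -, y, -, hcov, hy1⟩ := cover
  let g : A × Bool × Bool × Bool → G := fun p =>
    (if p.2.2.1 then x else 1) * (if p.2.2.2 then y else 1) * (p.1 * (if p.2.1 then c else 1))
  have hg : ∀ w ∈ C, ∃ p, g p = w := by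
    intro w hw
    obtain ⟨s, ⟨a, ha, hs⟩, e⟩ := hcov w hw
    obtain ⟨l, hl⟩ : ∃ l : Bool, a * (if l then c else 1) = s := by
      rcases hs with rfl | rfl
      · exact ⟨false, by simp⟩
      · exact ⟨true, by simp⟩
    rcases e with rfl | rfl | rfl | rfl
    · exact ⟨(⟨a, ha⟩, l, false, false), by
        simp only [g, Bool.false_eq_true, if_false, if_true, one_mul, mul_one]; rw [hl]⟩
    · exact ⟨(⟨a, ha⟩, l, true, false), by
        simp only [g, Bool.false_eq_true, if_false, if_true, one_mul, mul_one]; rw [hl]⟩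
    · exact ⟨(⟨a, ha⟩, l, false, true), by
        simp only [g, Bool.false_eq_true, if_false, if_true, one_mul, mul_one]; rw [hl]⟩
    · exact ⟨(⟨a, ha⟩, l, true, true), by
        simp only [g, Bool.false_eq_true, if_false, if_true, one_mul, mul_one]; rw [hl]⟩
  refine ⟨?_, fun hcomm => ?_⟩
  · choose p hp using hg
    have hinj : Function.Injective (fun w : C => p w w.2) := fun v w e => Subtype.ext <| by
      rw [← hp v v.2, ← hp w w.2]
      exact congrArg g e
    have := Nat.card_le_card_of_injective _ hinj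
    simp [Nat.card_prod] at this
    simp
    omega
  · have hy := hy1 hcomm
    have hg' : ∀ w ∈ C, ∃ p : A × Bool × Bool, g (p.1, p.2.1, p.2.2, false) = w := by
      intro w hw
      obtain ⟨⟨a, l, i, j⟩, e⟩ := hg w hw
      refine ⟨(a, l, i), ?_⟩
      rw [← e]
      cases j <;> simp [g, hy]
    choose p hp using hg'
    have hinj : Function.Injective (fun w : C => p w w.2) := fun v w e => Subtype.ext <| by
      rw [← hp v v.2, ← hp w w.2]
      exact congrArg (fun q : A × Bool × Bool => g (q.1, q.2.1, q.2.2, false)) e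
    have := Nat.card_le_card_of_injective _ hinj
    simp [Nat.card_prod] at this
    simp
    omega

theorem Thin.exists_avoiding [Finite G] (h : Thin c) (hV : 2 ^ 9 ≤ Nat.card G)
    (hZ : 2 ^ 5 ≤ Nat.card (center G)) :
    ∃ A : Subgroup G, c ∉ A ∧ 2 ^ 5 ≤ Nat.card A := by
  classical
  have hbot : c ∉ (⊥ : Subgroup G) := fun e => h.ne_one (mem_bot.mp e)
  obtain ⟨A₀, hA₀, hA₀max⟩ := (Set.toFinite {A : Subgroup G | A ≤ center G ∧ c ∉ A}).exists_maximal
    ⟨⊥, bot_le, hbot⟩
  obtain ⟨A, hA, hAmax⟩ := (Set.toFinite {A : Subgroup G | A₀ ≤ A ∧ c ∉ A}).exists_maximal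
    ⟨A₀, le_rfl, hA₀.2⟩
  refine ⟨A, hA.2, ?_⟩
  have hA2 : ∀ a ∈ A, a * a = 1 := fun a ha =>
    (h.sq a).resolve_right fun e => hA.2 (e ▸ mul_mem ha ha)
  have hAc : ∀ a ∈ A, ∀ b ∈ A, a * b = b * a := fun a ha b hb =>
    (h.comm a b).resolve_right fun e => hA.2 <| by
      have e2 : (b * a)⁻¹ * (a * b) = c := by rw [e]; group
      exact e2 ▸ mul_mem (inv_mem (mul_mem hb ha)) (mul_mem ha hb)
  have b0 := (h.card_le hA₀.1 hA₀.2 h.central
    (fun x _ a ha => (mem_center_iff.mp (hA₀.1 ha) x)) fun x hx => by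
      by_contra hn
      push Not at hn
      exact hn.2 (hA₀max ⟨sup_le hA₀.1 (zpowers_le.mpr hx), hn.1⟩ le_sup_left
        (mem_sup_right (mem_zpowers x)))).2 fun x _ y hy => mem_center_iff.mp hy x
  have b1 := (h.card_le (C := centralizer (A : Set G))
    (fun a ha => mem_centralizer_iff.mpr fun b hb => hAc b hb a ha) hA.2
    (mem_centralizer_iff.mpr fun b _ => mem_center_iff.mp h.central b)
    (fun x hx a ha => (mem_centralizer_iff.mp hx a ha).symm) fun x _ => by
      by_contra hn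
      push Not at hn
      exact hn.2 (hAmax ⟨hA.1.trans le_sup_left, hn.1⟩ le_sup_left
        (mem_sup_right (mem_zpowers x)))).1
  -- the centraliser of `A` has small index
  have hone : ∀ a : G, (centralizer ({a} : Set G)).index ≤ 2 := by
    intro a
    by_cases hall : ∀ x, x * a = a * x
    · have : centralizer ({a} : Set G) = ⊤ :=
        eq_top_iff.mpr fun x _ => mem_centralizer_singleton_iff.mpr (hall x)
      rw [this, index_top]
      omega
    push Not at hall
    obtain ⟨g₀, hg₀⟩ := hall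
    refine le_of_eq (index_eq_two_iff'.mpr ⟨g₀, fun b => ?_⟩)
    have hcg := mem_center_iff.mp h.central
    have e0 := (h.comm g₀ a).resolve_left hg₀
    by_cases hb : b ∈ centralizer ({a} : Set G)
    · refine Or.inr ⟨hb, fun h' => hg₀ ?_⟩
      have := mul_mem h' (inv_mem hb)
      rw [mul_inv_cancel_right] at this
      exact mem_centralizer_singleton_iff.mp this
    · refine Or.inl ⟨?_, hb⟩
      have eb := (h.comm b a).resolve_left fun e => hb (mem_centralizer_singleton_iff.mpr e)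
      refine mem_centralizer_singleton_iff.mpr ?_
      calc g₀ * b * a = g₀ * (a * b) * c := by rw [mul_assoc, eb]; simp [mul_assoc]
        _ = g₀ * a * (b * c) := by simp [mul_assoc]
        _ = a * g₀ * (c * b) * c := by rw [e0]; simp [mul_assoc]
        _ = a * (g₀ * b) * (c * c) := by rw [← hcg b]; simp [mul_assoc]
        _ = a * (g₀ * b) := by rw [h.sq_one, mul_one]
  obtain ⟨B, hB, hBmax⟩ := (Set.toFinite {B : Subgroup G | A₀ ≤ B ∧ B ≤ A ∧
    (centralizer (B : Set G)).index * Nat.card A₀ ≤ Nat.card B}).exists_maximal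
    ⟨A₀, le_rfl, hA.1, by
      have : centralizer (A₀ : Set G) = ⊤ :=
        eq_top_iff.mpr fun x _ => mem_centralizer_iff.mpr fun a ha =>
          (mem_center_iff.mp (hA₀.1 ha) x).symm
      rw [this, index_top, one_mul]⟩
  have hBA : B = A := by
    refine le_antisymm hB.2.1 fun a ha => ?_
    by_contra haB
    have hlt : 2 * Nat.card B ≤ Nat.card ↥(B ⊔ zpowers a) := by
      have hd := card_dvd_of_le (le_sup_left : B ≤ B ⊔ zpowers a)
      obtain ⟨q, hq⟩ := hd
      have hpos : 0 < Nat.card ↥(B ⊔ zpowers a) := Nat.card_pos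
      rcases q with - | - | q
      · rw [mul_zero] at hq; omega
      · exact absurd (eq_of_le_of_card_ge le_sup_left (by omega) :
          B = B ⊔ zpowers a) fun e => haB (e ▸ mem_sup_right (mem_zpowers a))
      · rw [hq]; nlinarith [Nat.card_pos (α := B)]
    have hidx : (centralizer ((B ⊔ zpowers a : Subgroup G) : Set G)).index ≤
        (centralizer (B : Set G)).index * 2 := by
      refine le_trans ?_ (le_trans (index_inf_le (H := centralizer (B : Set G))
        (K := centralizer ({a} : Set G))) (Nat.mul_le_mul_left _ (hone a)))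
      refine Nat.le_of_dvd (Nat.pos_of_ne_zero index_ne_zero_of_finite)
        (index_dvd_of_le fun x hx => ?_)
      obtain ⟨hxB, hxa⟩ := hx
      refine mem_centralizer_iff.mpr fun y hy => ?_
      have hle : B ⊔ zpowers a ≤ centralizer ({x} : Set G) :=
        sup_le (fun b hb => mem_centralizer_singleton_iff.mpr (mem_centralizer_iff.mp hxB b hb))
          (zpowers_le.mpr (mem_centralizer_singleton_iff.mpr
            (mem_centralizer_singleton_iff.mp hxa).symm))
      exact mem_centralizer_singleton_iff.mp (hle hy)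
    refine haB (hBmax ⟨hB.1.trans le_sup_left, sup_le hB.2.1 (zpowers_le.mpr ha), ?_⟩
      le_sup_left (mem_sup_right (mem_zpowers a)))
    calc _ ≤ (centralizer (B : Set G)).index * 2 * Nat.card A₀ := Nat.mul_le_mul_right _ hidx
      _ = 2 * ((centralizer (B : Set G)).index * Nat.card A₀) := by ring
      _ ≤ 2 * Nat.card B := Nat.mul_le_mul_left _ hB.2.2
      _ ≤ _ := hlt
  have b2 := hB.2.2
  rw [hBA] at b2
  -- combine, using that `|A|` is a power of two
  have hG : Nat.card G = Nat.card (centralizer (A : Set G)) * (centralizer (A : Set G)).index :=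
    (card_mul_index _).symm
  have hmain : 2 ^ 9 ≤ 2 * (Nat.card A * Nat.card A) / 1 ∧ 2 ^ 9 * Nat.card A₀ ≤
      8 * (Nat.card A * Nat.card A) := by
    have h8 : 2 ^ 9 * Nat.card A₀ ≤ 8 * (Nat.card A * Nat.card A) := by
      calc 2 ^ 9 * Nat.card A₀ ≤ Nat.card G * Nat.card A₀ := Nat.mul_le_mul_right _ hV
        _ = Nat.card (centralizer (A : Set G)) *
            ((centralizer (A : Set G)).index * Nat.card A₀) := by rw [hG]; ring
        _ ≤ 8 * Nat.card A * Nat.card A := Nat.mul_le_mul b1 b2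
        _ = _ := by ring
    refine ⟨?_, h8⟩
    omega
  obtain ⟨n, hn⟩ : ∃ n, Nat.card A = 2 ^ n := by
    refine (IsPGroup.iff_card (p := 2)).mp ?_
    exact fun a => ⟨1, by rw [pow_one, pow_two]; exact Subtype.ext (hA2 a a.2)⟩
  rw [hn]
  by_contra hlt
  have hn4 : n ≤ 4 := by
    by_contra h5
    exact hlt (Nat.pow_le_pow_right (by norm_num) (by omega))
  have h16 : Nat.card A ≤ 16 := hn ▸ Nat.pow_le_pow_right (by norm_num) hn4
  have hA₀8 : 8 ≤ Nat.card A₀ := by omega
  nlinarith [hmain.2, Nat.mul_le_mul h16 h16]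

/-- An element of a 2-group fixed together with its displacement by an odd order automorphism. -/
theorem fixed_of_displacement_fixed {T : Type*} [Group T] [Finite T] (hT : IsPGroup 2 T)
    (α : T ≃* T) {q : ℕ} (hq : Odd q) (hα : (⇑α)^[q] = id) {x : T}
    (hx : α (x⁻¹ * α x) = x⁻¹ * α x) : α x = x := by
  set d := x⁻¹ * α x with hd
  have hpow : ∀ i, (⇑α)^[i] x = x * d ^ i := by
    intro i
    induction i with
    | zero => simp
    | succ i ih =>
      have e : x * d = α x := by rw [hd, mul_inv_cancel_left]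
      rw [Function.iterate_succ_apply', ih, map_mul, map_pow, hx, pow_succ', ← mul_assoc, e]
  have h1 : d ^ q = 1 := by
    have := hpow q
    rw [hα, id] at this
    exact left_eq_mul.mp this
  obtain ⟨k, hk⟩ := hT d
  have hco : Nat.Coprime (2 ^ k) q := Nat.Coprime.pow_left _ (Nat.coprime_two_left.mpr hq)
  have : d = 1 := by
    have := pow_gcd_eq_one.mpr ⟨hk, h1⟩
    rwa [hco.gcd_eq_one, pow_one] at this
  rwa [hd, inv_mul_eq_one, eq_comm] at this

end Cfsg.Agent.RudvalisType
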