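import Cfsg.Agent.RudvalisType.Count

/-!
The action of `T` on `Z₃` in coordinates: `T / W` is dihedral of order 8.
-/

namespace Cfsg.Agent.RudvalisType

open Subgroup

/-- Coordinates of unitriangular 3 × 3 matrices over the field with two elements. -/
abbrev Bits : Type := ZMod 2 × ZMod 2 × ZMod 2

/-- Multiplication of coordinates. -/
def bmul (p q : Bits) : Bits := (p.1 + q.1, p.2.1 + q.2.1, p.2.2 + q.2.2 + p.1 * q.2.1)

/-- The inverse in coordinates. -/
def binv (p : Bits) : Bits := (p.1, p.2.1, p.2.2 + p.1 * p.2.1)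

/-- Coordinates that fix a point of `Z₃ ∖ Z₂`. -/
def FixBit (p : Bits) : Prop := p.2.1 = 0 ∧ ∃ j : ZMod 2, p.2.2 = j * p.1

instance : DecidablePred FixBit := fun _ => inferInstanceAs (Decidable (_ ∧ _))

/-- The isomorphism with the dihedral group, on coordinates. -/
def toDihedral (p : Bits) : DihedralGroup 4 :=
  if p = (1, 1, 0) then .r 1 else if p = (0, 0, 1) then .r 2 else if p = (1, 1, 1) then .r 3
  else if p = (1, 0, 0) then .sr 0 else if p = (0, 1, 1) then .sr 1 else if p = (1, 0, 1) then .sr 2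
  else if p = (0, 1, 0) then .sr 3 else 1

theorem toDihedral_mul : ∀ p q : Bits, toDihedral (bmul p q) = toDihedral p * toDihedral q := by
  decide +kernel

theorem toDihedral_eq_one : ∀ p : Bits, toDihedral p = 1 → p = 0 := by
  decide +kernel

theorem binv_spec : ∀ p q : Bits, bmul q p = 0 → q = binv p := by decide +kernel

theorem bmul_binv_eq_zero : ∀ p q : Bits, bmul (binv p) q = 0 → p = q := by decide +kernel

variable {T : Type*} [Group T]

/-- Powers of an involution with exponents modulo two. -/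
def sgn (z : T) (i : ZMod 2) : T := if i = 0 then 1 else z

theorem sgn_add {z : T} (h : z * z = 1) (i j : ZMod 2) : sgn z (i + j) = sgn z i * sgn z j := by
  rcases (by decide : ∀ i : ZMod 2, i = 0 ∨ i = 1) i with rfl | rfl <;>
    rcases (by decide : ∀ i : ZMod 2, i = 0 ∨ i = 1) j with rfl | rfl <;>
    simp [sgn, h, (by decide : (1 : ZMod 2) + 1 = 0)]

theorem sgn_mem {H : Subgroup T} {z : T} (h : z ∈ H) (i : ZMod 2) : sgn z i ∈ H := by
  unfold sgn; split_ifs <;> simp [h]

variable [Finite T] {W : Subgroup T}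

/-- The generators of `Z₃` and the coordinates of the action on them. -/
structure Coord (W : Subgroup T) where
  /-- The coordinate map. -/
  β : T → Bits
  map_mul : ∀ s t, β (s * t) = bmul (β s) (β t)
  eq_zero : ∀ t, β t = 0 ↔ t ∈ W
  surj : Function.Surjective β
  fix : ∀ t w, w ∈ Z T 3 → w ∉ Z T 2 → t * w * t⁻¹ = w → FixBit (β t)

theorem Hyp.exists_coord (h : Hyp T W) : Nonempty (Coord W) := by
  classical
  obtain ⟨z1, h1, h1'⟩ := h.exists_gen (i := 0) (by norm_num)
  obtain ⟨z2, h2, h2'⟩ := h.exists_gen (i := 1) (by norm_num)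
  obtain ⟨z3, h3, h3'⟩ := h.exists_gen (i := 2) (by norm_num)
  have hz3 : ∀ {i}, i ≤ 3 → Z T i ≤ Z T 3 := fun hi => Subgroup.upperCentralSeries_mono T hi
  have s1 := h.sq_one (hz3 (by norm_num) h1)
  have s2 := h.sq_one (hz3 (by norm_num) h2)
  have hb : ∀ {z : T}, z ∈ Z T 0 → z = 1 := fun {z} hz => by
    rw [show Z T 0 = ⊥ from Subgroup.upperCentralSeries_zero T, mem_bot] at hz
    exact hz
  have e1 : ∀ {z : T}, z ∈ Z T 1 → ∃ i, z = sgn z1 i := fun {z} hz => by
    by_cases hz0 : z ∈ Z T 0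
    · exact ⟨0, by rw [hb hz0]; simp [sgn]⟩
    · refine ⟨1, ?_⟩
      have := hb (h.mul_inv_mem (by norm_num) h1 h1' hz hz0)
      simpa [sgn] using mul_inv_eq_one.mp this
  have e2 : ∀ {z : T}, z ∈ Z T 2 → ∃ i j, z = sgn z1 i * sgn z2 j := fun {z} hz => by
    by_cases hz0 : z ∈ Z T 1
    · obtain ⟨i, hi⟩ := e1 hz0
      exact ⟨i, 0, by simp [sgn] at hi ⊢; exact hi⟩
    · obtain ⟨i, hi⟩ := e1 (h.mul_inv_mem (by norm_num) h2 h2' hz hz0)
      exact ⟨i, 1, by rw [← hi]; simp [sgn]⟩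
  have u1 : ∀ {i i'}, sgn z1 i = sgn z1 i' → i = i' := by
    intro i i' e
    have hne : z1 ≠ 1 := fun e => h1' (e ▸ one_mem _)
    rcases (by decide : ∀ i : ZMod 2, i = 0 ∨ i = 1) i with rfl | rfl <;>
      rcases (by decide : ∀ i : ZMod 2, i = 0 ∨ i = 1) i' with rfl | rfl <;>
      simp [sgn, hne, hne.symm] at e ⊢
  have u2 : ∀ {i j i' j'}, sgn z1 i * sgn z2 j = sgn z1 i' * sgn z2 j' → i = i' ∧ j = j' := by
    intro i j i' j' e
    have hjj : j = j' := by
      have hin : sgn z2 j * (sgn z2 j')⁻¹ ∈ Z T 1 := by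
        rw [show sgn z2 j * (sgn z2 j')⁻¹ =
          (sgn z1 i)⁻¹ * (sgn z1 i * sgn z2 j) * (sgn z2 j')⁻¹ by group, e]
        simpa [mul_assoc] using mul_mem (inv_mem (sgn_mem h1 i)) (sgn_mem h1 i')
      rcases (by decide : ∀ i : ZMod 2, i = 0 ∨ i = 1) j with rfl | rfl <;>
        rcases (by decide : ∀ i : ZMod 2, i = 0 ∨ i = 1) j' with rfl | rfl <;>
        simp [sgn] at hin ⊢ <;>
        exact h2' (by rw [show Z T 1 = center T from Subgroup.upperCentralSeries_one T]; exact hin)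
    subst hjj
    exact ⟨u1 (mul_right_cancel e), rfl⟩
  have hex : ∀ t : T, ∃ p : Bits, t * z2 * t⁻¹ = sgn z1 p.1 * z2 ∧
      t * z3 * t⁻¹ = sgn z1 p.2.2 * sgn z2 p.2.1 * z3 := by
    intro t
    obtain ⟨a, ha⟩ := e1 (conj_mul_inv_mem h2 t)
    obtain ⟨c, b, hbc⟩ := e2 (conj_mul_inv_mem h3 t)
    exact ⟨(a, b, c), by rw [← ha]; group, by rw [← hbc]; group⟩
  choose β hβ2 hβ3 using hex
  have huniq : ∀ (t : T) (p : Bits), t * z2 * t⁻¹ = sgn z1 p.1 * z2 →
      t * z3 * t⁻¹ = sgn z1 p.2.2 * sgn z2 p.2.1 * z3 → β t = p := by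
    intro t p q2 q3
    rw [hβ2 t] at q2
    rw [hβ3 t] at q3
    obtain ⟨r1, r2⟩ := u2 (mul_right_cancel q3)
    exact Prod.ext (u1 (mul_right_cancel q2)) (Prod.ext r2 r1)
  have hmul : ∀ s t, β (s * t) = bmul (β s) (β t) := by
    intro s t
    have c1 : ∀ i, s * sgn z1 i * s⁻¹ = sgn z1 i := fun i => by
      rw [← Z_one_comm (sgn_mem h1 i) s, mul_inv_cancel_right]
    have c2 : ∀ j, s * sgn z2 j * s⁻¹ = sgn z1 ((β s).1 * j) * sgn z2 j := by
      intro j
      rcases (by decide : ∀ i : ZMod 2, i = 0 ∨ i = 1) j with rfl | rfl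
      · simp [sgn]
      · simpa [sgn] using hβ2 s
    refine huniq _ _ ?_ ?_
    · calc s * t * z2 * (s * t)⁻¹ = s * (t * z2 * t⁻¹) * s⁻¹ := by group
        _ = (s * sgn z1 (β t).1 * s⁻¹) * (s * z2 * s⁻¹) := by rw [hβ2 t]; group
        _ = sgn z1 (bmul (β s) (β t)).1 * z2 := by
          rw [c1, hβ2 s, ← mul_assoc, ← sgn_add s1, add_comm]; rfl
    · calc s * t * z3 * (s * t)⁻¹ = s * (t * z3 * t⁻¹) * s⁻¹ := by group
        _ = (s * sgn z1 (β t).2.2 * s⁻¹) * (s * sgn z2 (β t).2.1 * s⁻¹) * (s * z3 * s⁻¹) := by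
          rw [hβ3 t]; group
        _ = sgn z1 (bmul (β s) (β t)).2.2 * sgn z2 (bmul (β s) (β t)).2.1 * z3 := by
          rw [c1, c2, hβ3 s]
          simp only [bmul, sgn_add s1, sgn_add s2]
          set A := sgn z1 (β t).2.2
          set B := sgn z1 ((β s).1 * (β t).2.1)
          set P := sgn z2 (β t).2.1
          set C := sgn z1 (β s).2.2
          set Q := sgn z2 (β s).2.1
          have hA : ∀ x, A * x = x * A := fun x => Z_one_comm (sgn_mem h1 _) x
          have hB : ∀ x, B * x = x * B := fun x => Z_one_comm (sgn_mem h1 _) x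
          have hC : ∀ x, C * x = x * C := fun x => Z_one_comm (sgn_mem h1 _) x
          have hPQ : P * Q = Q * P :=
            h.central (hz3 (by norm_num) (sgn_mem h2 _)) (h.Z_le (by norm_num) (sgn_mem h2 _))
          calc A * (B * P) * (C * Q * z3) = A * B * (P * C) * (Q * z3) := by simp [mul_assoc]
            _ = A * B * C * (P * Q) * z3 := by rw [← hC P]; simp [mul_assoc]
            _ = C * (A * B) * (Q * P) * z3 := by rw [hC (A * B), hPQ]
            _ = C * A * B * (Q * P) * z3 := by simp [mul_assoc]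
  have hzero : ∀ t, β t = 0 ↔ t ∈ W := by
    intro t
    constructor
    · intro e
      refine h.mem_W_of_gen h2 h2' h3 h3' ?_ ?_
      · rw [hβ2 t, e]; simp [sgn]
      · rw [hβ3 t, e]; simp [sgn]
    · intro ht
      refine huniq t 0 ?_ ?_
      · rw [← h.central (hz3 (by norm_num) h2) ht, mul_inv_cancel_right]; simp [sgn]
      · rw [← h.central h3 ht, mul_inv_cancel_right]; simp [sgn]
  have hsurj : Function.Surjective β := by
    have := h.normal
    have hinj : Function.Injective (fun q : T ⧸ W => β q.out) := by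
      intro q r e
      rw [← QuotientGroup.out_eq' q, ← QuotientGroup.out_eq' r, QuotientGroup.eq, ← hzero, hmul]
      have h0 : bmul (β q.out⁻¹) (β q.out) = 0 := by
        rw [← hmul, inv_mul_cancel]; exact (hzero 1).mpr (one_mem _)
      simp only at e
      rw [← e]; exact h0
    have hbij := hinj.bijective_of_nat_card_le (by
      rw [← index_eq_card, h.base.2.1]; simp)
    intro p
    obtain ⟨q, hq⟩ := hbij.2 p
    exact ⟨_, hq⟩
  refine ⟨⟨β, hmul, hzero, hsurj, fun t w hw hw' e => ?_⟩⟩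
  obtain ⟨i, j, hij⟩ := e2 (h.mul_inv_mem (by norm_num) h3 h3' hw hw')
  have hw3 : w = sgn z1 i * sgn z2 j * z3 := by rw [← hij, inv_mul_cancel_right]
  have c2 : t * sgn z2 j * t⁻¹ = sgn z1 ((β t).1 * j) * sgn z2 j := by
    rcases (by decide : ∀ i : ZMod 2, i = 0 ∨ i = 1) j with rfl | rfl
    · simp [sgn]
    · simpa [sgn] using hβ2 t
  have e' : sgn z1 (i + (β t).1 * j + (β t).2.2) * sgn z2 (j + (β t).2.1) =
      sgn z1 i * sgn z2 j := by
    apply mul_right_cancel (b := z3)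
    rw [sgn_add s1, sgn_add s1, sgn_add s2]
    rw [hw3] at e
    calc _ = sgn z1 i * sgn z1 ((β t).1 * j) * (sgn z1 (β t).2.2 * sgn z2 j) *
          sgn z2 (β t).2.1 * z3 := by simp [mul_assoc]
      _ = sgn z1 i * (sgn z1 ((β t).1 * j) * sgn z2 j) *
          (sgn z1 (β t).2.2 * sgn z2 (β t).2.1 * z3) := by
        rw [Z_one_comm (sgn_mem h1 (β t).2.2) (sgn z2 j)]; simp [mul_assoc]
      _ = (t * sgn z1 i * t⁻¹) * (t * sgn z2 j * t⁻¹) * (t * z3 * t⁻¹) := by
        rw [c2, hβ3 t, ← Z_one_comm (sgn_mem h1 i) t, mul_inv_cancel_right]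
      _ = t * (sgn z1 i * sgn z2 j * z3) * t⁻¹ := by group
      _ = _ := e
  obtain ⟨r1, r2⟩ := u2 e'
  exact ⟨(by decide : ∀ x y : ZMod 2, x + y = x → y = 0) _ _ r2,
    j, (by decide : ∀ x a y z : ZMod 2, x + a * y + z = x → z = y * a) _ _ _ _ r1⟩

theorem Coord.map_one (C : Coord W) : C.β 1 = 0 := (C.eq_zero 1).mpr (one_mem _)

theorem Coord.map_inv (C : Coord W) (t : T) : C.β t⁻¹ = binv (C.β t) :=
  binv_spec _ _ (by rw [← C.map_mul, inv_mul_cancel, C.map_one])

theorem Coord.eq_iff (C : Coord W) {s t : T} : C.β s = C.β t ↔ s⁻¹ * t ∈ W := by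
  rw [← C.eq_zero, C.map_mul, C.map_inv]
  constructor
  · intro e
    rw [← e, ← C.map_inv, ← C.map_mul, inv_mul_cancel, C.map_one]
  · exact bmul_binv_eq_zero _ _

theorem Hyp.exists_iso (h : Hyp T W) :
    ∃ (_ : W.Normal), Nonempty (T ⧸ W ≃* DihedralGroup 4) := by
  have := h.normal
  obtain ⟨C⟩ := h.exists_coord
  let f : T →* DihedralGroup 4 :=
    { toFun := fun t => toDihedral (C.β t)
      map_one' := by rw [C.map_one]; decide +kernel
      map_mul' := fun s t => by rw [C.map_mul, toDihedral_mul] }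
  have hker : f.ker = W := by
    ext t
    rw [MonoidHom.mem_ker]
    constructor
    · exact fun e => (C.eq_zero t).mp (toDihedral_eq_one _ e)
    · intro ht
      show toDihedral (C.β t) = 1
      rw [(C.eq_zero t).mpr ht]; decide +kernel
  have hsurj : Function.Surjective f := by
    refine MonoidHom.range_eq_top.mp (eq_top_of_card_eq _ ?_)
    rw [← index_ker, hker, h.base.2.1, DihedralGroup.nat_card]
  exact ⟨h.normal, ⟨(QuotientGroup.quotientMulEquivOfEq hker.symm).trans
    (QuotientGroup.quotientKerEquivOfSurjective f hsurj)⟩⟩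

end Cfsg.Agent.RudvalisType
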