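import Cfsg.Agent.RudvalisType.Frame

/-!
`Z(W) = Z₃`: if an element of `Z₄ ∖ Z₃` were central in `W`, the commutator form modulo `Z₂`
would have a radical of order at least `2 ^ 5`.
-/

namespace Cfsg.Agent.RudvalisType

open Subgroup

theorem sym_of_sum : ∀ f : Bits → ZMod 2, f 0 = 0 → (∀ p, f (binv p) = f p) →
    (∀ p, bmul p p = 0 → ¬ FixBit p → f p = 0) → ∑ p, f p = 0 →
    ∀ p, f (bmul p (0, 0, 1)) = f p := by
  intro f h0 hinv hfix hsum
  have a1 := hfix (0, 0, 1) (by decide) (by decide)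
  have a2 := hfix (0, 1, 0) (by decide) (by decide)
  have a3 := hfix (0, 1, 1) (by decide) (by decide)
  have a4 : f (1, 1, 1) = f (1, 1, 0) := hinv (1, 1, 0)
  have hcases : ∀ g : ZMod 2 → ZMod 2, ∑ i, g i = g 0 + g 1 := fun g => Fin.sum_univ_two g
  simp only [Fintype.sum_prod_type, hcases, h0, a1, a2, a3, a4, zero_add] at hsum
  have h0' : f (0, 0, 0) = 0 := h0
  rw [h0'] at hsum
  have a5 : f (1, 0, 1) = f (1, 0, 0) :=
    (by decide : ∀ u v w : ZMod 2, u + v + (w + w) = 0 → v = u) _ _ (f (1, 1, 0))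
      (by simpa using hsum)
  rintro ⟨a, b, c⟩
  rcases (by decide : ∀ i : ZMod 2, i = 0 ∨ i = 1) a with rfl | rfl <;>
    rcases (by decide : ∀ i : ZMod 2, i = 0 ∨ i = 1) b with rfl | rfl <;>
    rcases (by decide : ∀ i : ZMod 2, i = 0 ∨ i = 1) c with rfl | rfl <;>
    simp [bmul, h0', a1, a2, a3, a4, a5, (by decide : (1 : ZMod 2) + 1 = 0)]

theorem card_comap_mk' {G : Type*} [Group G] [Finite G] (N : Subgroup G) [N.Normal]
    (K : Subgroup (G ⧸ N)) :
    Nat.card (K.comap (QuotientGroup.mk' N)) = Nat.card K * Nat.card N := by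
  have e1 := card_mul_index (K.comap (QuotientGroup.mk' N))
  rw [index_comap_of_surjective _ (QuotientGroup.mk'_surjective N),
    card_eq_card_quotient_mul_card_subgroup N, ← card_mul_index K] at e1
  exact Nat.eq_of_mul_eq_mul_right (Nat.pos_of_ne_zero index_ne_zero_of_finite)
    (e1.trans (by ring))

variable {T : Type*} [Group T] [Finite T] {W : Subgroup T}

theorem Hyp.half_Z (h : Hyp T W) : Half (Z T 3) (Z T 2) := by
  refine ⟨Subgroup.upperCentralSeries_mono T (by norm_num), fun a ha b hb => ?_⟩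
  by_cases h1 : a ∈ Z T 2
  · simp [Subgroup.mul_mem_cancel_left _ h1, h1]
  by_cases h2 : b ∈ Z T 2
  · simp [Subgroup.mul_mem_cancel_right _ h2, h2]
  simp only [h1, h2, iff_self, iff_true]
  simpa using h.mul_inv_mem (i := 2) (by norm_num) (inv_mem hb) (by simpa using h2) ha h1

/-- The commutator form modulo `Z₂`. -/
noncomputable def form (x y : T) : ZMod 2 := ind (Z T 2) (x * y * x⁻¹ * y⁻¹)

theorem form_self (x : T) : form x x = 0 := by simp [form, ind_eq_zero]

theorem form_symm (x y : T) : form x y = form y x := by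
  have : x * y * x⁻¹ * y⁻¹ ∈ Z T 2 ↔ y * x * y⁻¹ * x⁻¹ ∈ Z T 2 := by
    rw [← inv_mem_iff]; simp [mul_assoc]
  by_cases h : x * y * x⁻¹ * y⁻¹ ∈ Z T 2 <;> simp [form, ind, h, ← this]

theorem form_conj (x y t : T) : form (t * x * t⁻¹) (t * y * t⁻¹) = form x y := by
  have e : t * x * t⁻¹ * (t * y * t⁻¹) * (t * x * t⁻¹)⁻¹ * (t * y * t⁻¹)⁻¹ =
      t * (x * y * x⁻¹ * y⁻¹) * t⁻¹ := by simp [mul_assoc]
  have hiff : ∀ u, t * u * t⁻¹ ∈ Z T 2 ↔ u ∈ Z T 2 := fun u =>
    ⟨fun hu => by simpa [mul_assoc] using Subgroup.Normal.conj_mem inferInstance _ hu t⁻¹,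
      fun hu => Subgroup.Normal.conj_mem inferInstance _ hu t⟩
  rw [form, form, e]
  unfold ind
  by_cases h : x * y * x⁻¹ * y⁻¹ ∈ Z T 2
  · rw [if_pos ((hiff _).mpr h), if_pos h]
  · rw [if_neg fun h' => h ((hiff _).mp h'), if_neg h]

theorem Hyp.form_add_left (h : Hyp T W) {x y w : T} (hx : x ∈ W) (hy : y ∈ W) (hw : w ∈ W) :
    form (x * y) w = form x w + form y w := by
  have e : x * y * w * (x * y)⁻¹ * w⁻¹ = x * (y * w * y⁻¹ * w⁻¹) * x⁻¹ * (x * w * x⁻¹ * w⁻¹) := by
    simp [mul_assoc]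
  rw [form, e, ← h.central (h.comm_mem hy hw) hx, mul_inv_cancel_right,
    h.half_Z.ind_mul (h.comm_mem hy hw) (h.comm_mem hx hw), add_comm]
  rfl

theorem Hyp.form_add_right (h : Hyp T W) {x y w : T} (hx : x ∈ W) (hy : y ∈ W) (hw : w ∈ W) :
    form w (x * y) = form w x + form w y := by
  rw [form_symm w, h.form_add_left hx hy hw, form_symm x, form_symm y]

theorem Hyp.form_central (h : Hyp T W) {z w : T} (hz : z ∈ Z T 3) (hw : w ∈ W) : form z w = 0 := by
  simp [form, ind_eq_zero, h.central hz hw]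

/-- `x ↦ x⁻¹ * φ x` modulo `Z₃`. -/
noncomputable def Hyp.disp (h : Hyp T W) [((Z T 3).subgroupOf W).Normal] (φ : T →* T)
    (hφ : ∀ x ∈ W, φ x ∈ W) : W →* W ⧸ (Z T 3).subgroupOf W where
  toFun x := ((⟨(x : T)⁻¹ * φ x, mul_mem (inv_mem x.2) (hφ _ x.2)⟩ : W) : W ⧸ _)
  map_one' := by
    refine (QuotientGroup.eq_one_iff _).mpr ?_
    simp [mem_subgroupOf]
  map_mul' x y := by
    rw [← QuotientGroup.mk_mul, QuotientGroup.eq]
    simp only [mem_subgroupOf, coe_mul, coe_inv, map_mul]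
    have hmem : ∀ {a b : T}, a ∈ W → b ∈ W → a * b * a⁻¹ * b⁻¹ ∈ Z T 3 := h.comm_mem
    have hsplit : ((((x : T) * y)⁻¹ * (φ x * φ y)))⁻¹ * ((x : T)⁻¹ * φ x * ((y : T)⁻¹ * φ y)) =
        (φ y)⁻¹ * (((φ x)⁻¹ * (x : T) * ((y : T) * (x : T)⁻¹ * φ x * (y : T)⁻¹)) * φ y) := by
      simp [mul_assoc]
    rw [hsplit]
    have hc := hmem (a := (φ x)⁻¹ * x) (b := y) (mul_mem (inv_mem (hφ _ x.2)) x.2) y.2
    have heq : (φ x)⁻¹ * (x : T) * ((y : T) * (x : T)⁻¹ * φ x * (y : T)⁻¹) =
        (φ x)⁻¹ * (x : T) * y * ((φ x)⁻¹ * (x : T))⁻¹ * (y : T)⁻¹ := by simp [mul_assoc]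
    rw [heq, h.central hc (hφ _ y.2), inv_mul_cancel_left]
    exact hc

theorem Hyp.disp_mem (h : Hyp T W) [((Z T 3).subgroupOf W).Normal] (φ : T →* T)
    (hφ : ∀ x ∈ W, φ x ∈ W) {x : W} :
    h.disp φ hφ x = 1 ↔ (x : T)⁻¹ * φ x ∈ Z T 3 :=
  (QuotientGroup.eq_one_iff _).trans mem_subgroupOf

theorem Hyp.sum_form (h : Hyp T W) (F : Frame W) :
    ∀ x ∈ W, form F.x0 x =
      ∑ k, ind F.U ((F.rep k)⁻¹ * x * F.rep k) * form F.x0 (F.rep k * F.x0 * (F.rep k)⁻¹) := by
  have hn := h.normal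
  let H : Subgroup T :=
    { carrier := {x | x ∈ W ∧ form F.x0 x =
        ∑ k, ind F.U ((F.rep k)⁻¹ * x * F.rep k) * form F.x0 (F.rep k * F.x0 * (F.rep k)⁻¹)}
      one_mem' := ⟨one_mem _, by
        simp [form, ind_eq_zero, show ind F.U 1 = 0 from ind_eq_zero.mpr (one_mem _)]⟩
      mul_mem' := fun {a b} ha hb => ⟨mul_mem ha.1 hb.1, by
        rw [h.form_add_right ha.1 hb.1 F.x0_mem, ha.2, hb.2, ← Finset.sum_add_distrib]
        refine Finset.sum_congr rfl fun k _ => ?_
        rw [← add_mul, ← F.half.ind_mul (conjInv_mem hn ha.1 _) (conjInv_mem hn hb.1 _)]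
        congr 2
        simp [mul_assoc]⟩
      inv_mem' := fun {a} ha => ⟨inv_mem ha.1, by
        have e1 : form F.x0 a⁻¹ = form F.x0 a := by
          have := h.form_add_right ha.1 (inv_mem ha.1) F.x0_mem
          rw [mul_inv_cancel] at this
          have h0 : form F.x0 1 = (0 : ZMod 2) := by simp [form, ind_eq_zero]
          rw [h0] at this
          exact (by decide : ∀ u v : ZMod 2, 0 = u + v → v = u) _ _ this
        rw [e1, ha.2]
        refine Finset.sum_congr rfl fun k _ => ?_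
        congr 1
        rw [show (F.rep k)⁻¹ * a⁻¹ * F.rep k = ((F.rep k)⁻¹ * a * F.rep k)⁻¹ by group]
        by_cases hm : (F.rep k)⁻¹ * a * F.rep k ∈ F.U <;> simp only [ind, inv_mem_iff, hm]⟩ }
  refine fun x hx => ((F.gen h (H := H) (fun z hz => ⟨h.Z_le (by norm_num) hz, ?_⟩) fun t =>
    ⟨hn.conj_mem _ F.x0_mem t, ?_⟩) hx).2
  · rw [form_symm, h.form_central hz F.x0_mem]
    refine (Finset.sum_eq_zero fun k _ => ?_).symm
    rw [ind_eq_zero.mpr (F.Z3_le ?_), zero_mul]
    simpa using Subgroup.Normal.conj_mem inferInstance z hz (F.rep k)⁻¹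
  · rw [Finset.sum_eq_single (F.β t)]
    · rw [show (F.rep (F.β t))⁻¹ * (t * F.x0 * t⁻¹) * F.rep (F.β t) =
        (t⁻¹ * F.rep (F.β t))⁻¹ * F.x0 * (t⁻¹ * F.rep (F.β t)) by simp [mul_assoc], F.delta,
        if_pos ((F.eq_zero _).mpr (F.eq_iff.mp (F.β_rep _).symm)), one_mul]
      have hw : (F.rep (F.β t))⁻¹ * t ∈ W := F.eq_iff.mp (F.β_rep _)
      set r := F.rep (F.β t)
      set w := r⁻¹ * t with hwdef
      have e : t * F.x0 * t⁻¹ = r * (w * F.x0 * w⁻¹ * F.x0⁻¹) * r⁻¹ * (r * F.x0 * r⁻¹) := by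
        simp [hwdef, mul_assoc]
      have hcm : r * (w * F.x0 * w⁻¹ * F.x0⁻¹) * r⁻¹ ∈ Z T 3 :=
        Subgroup.Normal.conj_mem inferInstance _ (h.comm_mem hw F.x0_mem) r
      rw [e, h.form_add_right (h.Z_le (by norm_num) hcm) (hn.conj_mem _ F.x0_mem r) F.x0_mem,
        form_symm, h.form_central hcm F.x0_mem, zero_add]
    · intro k _ hk
      rw [show (F.rep k)⁻¹ * (t * F.x0 * t⁻¹) * F.rep k =
        (t⁻¹ * F.rep k)⁻¹ * F.x0 * (t⁻¹ * F.rep k) by simp [mul_assoc], F.delta, if_neg,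
        zero_mul]
      intro e
      exact hk (by rw [← F.β_rep k]; exact (F.eq_iff.mpr ((F.eq_zero _).mp e)).symm)
    · simp

theorem Hyp.z4_not_central (h : Hyp T W) (F : Frame W) : ¬ ∀ w ∈ W, F.z4 * w = w * F.z4 := by
  classical
  intro hcen
  have hn := h.normal
  let f : Bits → ZMod 2 := fun k => form F.x0 (F.rep k * F.x0 * (F.rep k)⁻¹)
  have hf : ∀ t, form F.x0 (t * F.x0 * t⁻¹) = f (F.β t) := by
    intro t
    rw [h.sum_form F _ (hn.conj_mem _ F.x0_mem t), Finset.sum_eq_single (F.β t)]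
    · rw [show (F.rep (F.β t))⁻¹ * (t * F.x0 * t⁻¹) * F.rep (F.β t) =
        (t⁻¹ * F.rep (F.β t))⁻¹ * F.x0 * (t⁻¹ * F.rep (F.β t)) by simp [mul_assoc], F.delta,
        if_pos ((F.eq_zero _).mpr (F.eq_iff.mp (F.β_rep _).symm)), one_mul]
    · intro k _ hk
      rw [show (F.rep k)⁻¹ * (t * F.x0 * t⁻¹) * F.rep k =
        (t⁻¹ * F.rep k)⁻¹ * F.x0 * (t⁻¹ * F.rep k) by simp [mul_assoc], F.delta, if_neg, zero_mul]
      intro e
      exact hk (by rw [← F.β_rep k]; exact (F.eq_iff.mpr ((F.eq_zero _).mp e)).symm)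
    · simp
  have h0 : f 0 = 0 := by
    have := hf 1
    rwa [F.map_one, one_mul, inv_one, mul_one, form_self, eq_comm] at this
  have hinv : ∀ p, f (binv p) = f p := by
    intro p
    rw [← F.β_rep p, ← F.map_inv, ← hf, ← hf,
      ← form_conj F.x0 _ (F.rep p), form_symm]
    congr 1
    simp [mul_assoc]
  have hfix : ∀ p, bmul p p = 0 → ¬ FixBit p → f p = 0 := by
    intro p hp hnf
    set t := F.rep p
    have ht2 : t * t ∈ W := (F.eq_zero _).mp (by rw [F.map_mul, F.β_rep]; exact hp)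
    show form F.x0 (t * F.x0 * t⁻¹) = 0
    set x' := t * F.x0 * t⁻¹ with hx'
    have hx'W : x' ∈ W := hn.conj_mem _ F.x0_mem t
    set u := t * t * F.x0 * (t * t)⁻¹ * F.x0⁻¹ with hu
    have hu3 : u ∈ Z T 3 := h.comm_mem ht2 F.x0_mem
    set c := F.x0 * x' * F.x0⁻¹ * x'⁻¹ with hc
    have hc3 : c ∈ Z T 3 := h.comm_mem F.x0_mem hx'W
    by_contra hne
    have hc2 : c ∉ Z T 2 := fun h2 => hne (ind_eq_zero.mpr h2)
    refine hnf ((F.β_rep p) ▸ F.fix t c hc3 hc2 ?_)
    have e : t * c * t⁻¹ = x' * (u * F.x0) * x'⁻¹ * (u * F.x0)⁻¹ := by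
      simp [hc, hx', hu, mul_assoc]
    have e' : x' * (u * F.x0) * x'⁻¹ * (u * F.x0)⁻¹ = c⁻¹ := by
      calc x' * (u * F.x0) * x'⁻¹ * (u * F.x0)⁻¹
          = (x' * u) * (F.x0 * x'⁻¹ * F.x0⁻¹) * u⁻¹ := by simp [mul_assoc]
        _ = u * (x' * F.x0 * x'⁻¹ * F.x0⁻¹) * u⁻¹ := by
          rw [← h.central hu3 hx'W]; simp [mul_assoc]
        _ = u * c⁻¹ * u⁻¹ := by simp [hc, mul_assoc]
        _ = c⁻¹ := by
          rw [h.central hu3 (h.Z_le (by norm_num) (inv_mem hc3)), mul_inv_cancel_right]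
    rw [e, e', inv_eq_of_mul_eq_one_right (h.sq_one hc3)]
  have hz4W : F.z4 ∈ W := h.Z_le le_rfl F.z4_mem
  have hsum : ∑ p, f p = 0 := by
    have e := h.sum_form F _ hz4W
    have e0 : form F.x0 F.z4 = 0 := by
      refine ind_eq_zero.mpr ?_
      rw [← hcen _ F.x0_mem, mul_inv_cancel_right, mul_inv_cancel]
      exact one_mem _
    rw [e0] at e
    refine Eq.trans (Finset.sum_congr rfl fun k _ => ?_) e.symm
    rw [ind_of_not, one_mul]
    intro hm
    have hc : (F.rep k)⁻¹ * F.z4 * F.rep k * F.z4⁻¹ ∈ Z T 3 := by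
      simpa using conj_mul_inv_mem (n := 3) F.z4_mem (F.rep k)⁻¹
    have := mul_mem (inv_mem (F.Z3_le hc)) hm
    simp [mul_assoc] at this
    exact F.z4_not this
  have hsym := sym_of_sum f h0 hinv hfix hsum
  -- the form is invariant under the central involution of `T / W`
  set tz := F.rep (0, 0, 1) with htz
  have hσ : ∀ {x y : T}, x ∈ W → y ∈ W → form x (tz * y * tz⁻¹) = form x y := by
    have hgen : ∀ r : T, ∀ y ∈ W, form (r * F.x0 * r⁻¹) (tz * y * tz⁻¹) = form (r * F.x0 * r⁻¹) y := by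
      intro r
      let H : Subgroup T :=
        { carrier := {y | y ∈ W ∧
            form (r * F.x0 * r⁻¹) (tz * y * tz⁻¹) = form (r * F.x0 * r⁻¹) y}
          one_mem' := ⟨one_mem _, by simp⟩
          mul_mem' := fun {a b} ha hb => ⟨mul_mem ha.1 hb.1, by
            rw [show tz * (a * b) * tz⁻¹ = (tz * a * tz⁻¹) * (tz * b * tz⁻¹) by simp [mul_assoc],
              h.form_add_right (hn.conj_mem _ ha.1 _) (hn.conj_mem _ hb.1 _)
                (hn.conj_mem _ F.x0_mem _),
              h.form_add_right ha.1 hb.1 (hn.conj_mem _ F.x0_mem _), ha.2, hb.2]⟩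
          inv_mem' := fun {a} ha => ⟨inv_mem ha.1, by
            have e1 := h.form_add_right (hn.conj_mem _ ha.1 tz)
              (inv_mem (hn.conj_mem _ ha.1 tz)) (hn.conj_mem _ F.x0_mem r)
            have e2 := h.form_add_right ha.1 (inv_mem ha.1) (hn.conj_mem _ F.x0_mem r)
            rw [mul_inv_cancel] at e1 e2
            rw [show tz * a⁻¹ * tz⁻¹ = (tz * a * tz⁻¹)⁻¹ by group]
            rw [ha.2] at e1
            rw [e1] at e2
            exact add_left_cancel e2⟩ }
      refine fun y hy => ((F.gen h (H := H) (fun z hz => ⟨h.Z_le (by norm_num) hz, ?_⟩) fun s =>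
        ⟨hn.conj_mem _ F.x0_mem s, ?_⟩) hy).2
      · rw [form_symm, h.form_central (Subgroup.Normal.conj_mem inferInstance _ hz _)
          (hn.conj_mem _ F.x0_mem r), form_symm, h.form_central hz (hn.conj_mem _ F.x0_mem r)]
      · rw [show tz * (s * F.x0 * s⁻¹) * tz⁻¹ = r * ((r⁻¹ * tz * s) * F.x0 * (r⁻¹ * tz * s)⁻¹) * r⁻¹
            by simp [mul_assoc],
          show s * F.x0 * s⁻¹ = r * ((r⁻¹ * s) * F.x0 * (r⁻¹ * s)⁻¹) * r⁻¹ by simp [mul_assoc],
          form_conj, form_conj, hf, hf, F.map_mul, F.map_mul, F.map_mul (s := r⁻¹) (t := s),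
          show F.β tz = (0, 0, 1) from F.β_rep _,
          show ∀ p q : Bits, bmul (bmul p (0, 0, 1)) q = bmul (bmul p q) (0, 0, 1) by decide +kernel,
          hsym]
    intro x y hx hy
    let H : Subgroup T :=
      { carrier := {x | x ∈ W ∧ form x (tz * y * tz⁻¹) = form x y}
        one_mem' := ⟨one_mem _, by simp [form, ind_eq_zero]⟩
        mul_mem' := fun {a b} ha hb => ⟨mul_mem ha.1 hb.1, by
          rw [h.form_add_left ha.1 hb.1 (hn.conj_mem _ hy _), h.form_add_left ha.1 hb.1 hy, ha.2,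
            hb.2]⟩
        inv_mem' := fun {a} ha => ⟨inv_mem ha.1, by
          have e1 := h.form_add_left ha.1 (inv_mem ha.1) (hn.conj_mem _ hy tz)
          have e2 := h.form_add_left ha.1 (inv_mem ha.1) hy
          rw [mul_inv_cancel, h.form_central (one_mem _) (hn.conj_mem _ hy tz)] at e1
          rw [mul_inv_cancel, h.form_central (one_mem _) hy, e1, ha.2] at e2
          exact add_left_cancel e2⟩ }
    exact ((F.gen h (H := H) (fun z hz => ⟨h.Z_le (by norm_num) hz, by
      rw [h.form_central hz (hn.conj_mem _ hy _), h.form_central hz hy]⟩) fun r =>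
      ⟨hn.conj_mem _ F.x0_mem r, hgen r y hy⟩) hx).2
  -- the image of `x ↦ x⁻¹ * tz x tz⁻¹`
  let σ : T →* T := (MulAut.conj tz).toMonoidHom
  have hσW : ∀ x ∈ W, σ x ∈ W := fun x hx => by simpa [σ] using hn.conj_mem x hx tz
  let δ := h.disp σ hσW
  let ψ := psi hn F.half F.rep
  have hker : Nat.card δ.ker ≤ 2 ^ 7 := by
    let g : δ.ker →* Multiplicative (ZMod 2 × ZMod 2 → ZMod 2) :=
      { toFun := fun x => Multiplicative.ofAdd fun ab =>
          Multiplicative.toAdd (ψ (x : W)) (ab.1, ab.2, 0)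
        map_one' := by
          rw [← ofAdd_zero]
          exact congrArg _ (funext fun ab => by simp)
        map_mul' := fun x y => by
          rw [← ofAdd_add]
          exact congrArg _ (funext fun ab => by simp) }
    have hsub : (g.ker.map δ.ker.subtype).map W.subtype ≤ Z T 3 := by
      rintro _ ⟨x, ⟨⟨x', hx'⟩, hxg, rfl⟩, rfl⟩
      refine F.ker _ x'.2 fun t => ind_eq_zero.mp ?_
      show ind F.U (t⁻¹ * (x' : T) * t) = 0
      rw [F.ind_conj hn x'.2 (F.β_rep (F.β t)).symm]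
      generalize F.β t = k
      have hab : ∀ a b : ZMod 2, ind F.U ((F.rep (a, b, 0))⁻¹ * x' * F.rep (a, b, 0)) = 0 :=
        fun a b => congrFun (congrArg Multiplicative.toAdd (MonoidHom.mem_ker.mp hxg)) (a, b)
      obtain ⟨a, b, c⟩ := k
      rcases (by decide : ∀ i : ZMod 2, i = 0 ∨ i = 1) c with rfl | rfl
      · exact hab a b
      set r := F.rep (a, b, 1) with hr
      have hc : (x' : T)⁻¹ * σ x' ∈ Z T 3 := (h.disp_mem σ hσW).mp hx'
      have hcU : r⁻¹ * ((x' : T)⁻¹ * σ x') * r ∈ F.U :=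
        F.Z3_le (by simpa using Subgroup.Normal.conj_mem inferInstance _ hc r⁻¹)
      have e : r⁻¹ * σ x' * r = (r⁻¹ * (x' : T) * r) * (r⁻¹ * ((x' : T)⁻¹ * σ x') * r) := by
        simp [mul_assoc]
      have e2 : ind F.U (r⁻¹ * σ x' * r) = ind F.U (r⁻¹ * (x' : T) * r) := by
        rw [e, F.half.ind_mul (conjInv_mem hn x'.2 _) (F.half.le hcU), ind_eq_zero.mpr hcU, add_zero]
      rw [← e2, show r⁻¹ * σ x' * r = (tz⁻¹ * r)⁻¹ * (x' : T) * (tz⁻¹ * r) by simp [σ, mul_assoc]]
      rw [F.ind_conj hn x'.2 (t := F.rep (a, b, 0))]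
      · exact hab a b
      · rw [F.map_mul, F.map_inv, htz, F.β_rep, hr, F.β_rep, F.β_rep]
        exact (by decide +kernel : ∀ a b : ZMod 2,
          bmul (binv (0, 0, 1)) (a, b, 1) = (a, b, 0)) a b
    have e1 : Nat.card g.ker ≤ 2 ^ 3 := by
      have := card_le_of_le hsub
      rwa [card_map_of_injective W.subtype_injective, card_map_of_injective δ.ker.subtype_injective,
        h.card_Z (by norm_num)] at this
    have e2 : g.ker.index ≤ 2 ^ 4 := by
      rw [index_ker]
      refine (card_le_card_group _).trans (le_of_eq ?_)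
      show Nat.card (ZMod 2 × ZMod 2 → ZMod 2) = _
      rw [Nat.card_fun, Nat.card_prod, Nat.card_zmod]
    calc Nat.card δ.ker = Nat.card g.ker * g.ker.index := (card_mul_index _).symm
      _ ≤ 2 ^ 3 * 2 ^ 4 := Nat.mul_le_mul e1 e2
      _ = 2 ^ 7 := by norm_num
  have hrange : 2 ^ 4 ≤ Nat.card δ.range := by
    have e := card_mul_index δ.ker
    rw [index_ker, h.base.2.2.1] at e
    by_contra hlt
    have : Nat.card δ.ker * Nat.card δ.range ≤ 2 ^ 7 * 15 := Nat.mul_le_mul hker (by omega)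
    omega
  -- the quotient by `Z₂`
  set N := (Z T 2).subgroupOf W with hN
  have hZ32 : Z T 2 ≤ Z T 3 := Subgroup.upperCentralSeries_mono T (by norm_num)
  have hN2 : Nat.card N = 4 := by
    rw [Nat.card_congr (subgroupOfEquivOfLe (h.Z_le (by norm_num))).toEquiv,
      h.card_Z (by norm_num)]
    norm_num
  have hN3 : Nat.card ((Z T 3).subgroupOf W) = 8 := by
    rw [Nat.card_congr (subgroupOfEquivOfLe (h.Z_le (by norm_num))).toEquiv,
      h.card_Z (by norm_num)]
    norm_num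
  have hle : δ.range.comap (QuotientGroup.mk' ((Z T 3).subgroupOf W)) ≤
      (center (W ⧸ N)).comap (QuotientGroup.mk' N) := by
    intro y hy
    obtain ⟨x, hx⟩ := hy
    refine mem_center_iff.mpr fun q => ?_
    induction q using QuotientGroup.induction_on with
    | _ w =>
      rw [QuotientGroup.mk'_apply, ← QuotientGroup.mk_mul, ← QuotientGroup.mk_mul,
        QuotientGroup.eq, hN, mem_subgroupOf]
      simp only [coe_mul, coe_inv, mul_inv_rev]
      have hd : (((x : T)⁻¹ * σ x)⁻¹ * (y : T)) ∈ Z T 3 := by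
        simpa [δ, Hyp.disp, QuotientGroup.eq, mem_subgroupOf] using hx
      set d := (x : T)⁻¹ * σ x with hdd
      have hdW : d ∈ W := mul_mem (inv_mem x.2) (hσW _ x.2)
      have hfd : form d w = 0 := by
        have hxi : form (x : T)⁻¹ (w : T) = form (x : T) w := by
          have := h.form_add_left x.2 (inv_mem x.2) w.2
          rw [mul_inv_cancel, h.form_central (one_mem _) w.2] at this
          exact (by decide : ∀ u v : ZMod 2, 0 = u + v → v = u) _ _ this
        rw [hdd, h.form_add_left (inv_mem x.2) (hσW _ x.2) w.2, hxi, form_symm (σ x),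
          show σ x = tz * x * tz⁻¹ from rfl, hσ w.2 x.2, form_symm (w : T)]
        exact (by decide : ∀ u : ZMod 2, u + u = 0) _
      have hfy : form (y : T) w = 0 := by
        rw [show (y : T) = d * (d⁻¹ * y) by simp, h.form_add_left hdW (h.Z_le (by norm_num) hd) w.2,
          hfd, h.form_central hd w.2, add_zero]
      have hm := ind_eq_zero.mp hfy
      have := Subgroup.Normal.conj_mem (inferInstance : (Z T 2).Normal) _ hm ((w : T) * y)⁻¹
      simpa [mul_assoc] using this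
  have hcen5 : 2 ^ 5 ≤ Nat.card (center (W ⧸ N)) := by
    have := card_le_of_le hle
    rw [card_comap_mk', card_comap_mk', hN2, hN3] at this
    omega
  have hV : 2 ^ 9 ≤ Nat.card (W ⧸ N) := by
    have := card_eq_card_quotient_mul_card_subgroup N
    rw [hN2, h.base.2.2.1] at this
    omega
  obtain ⟨z3, hz3, hz3'⟩ := h.exists_gen (i := 2) (by norm_num)
  have hz3W : z3 ∈ W := h.Z_le (by norm_num) hz3
  have hdec : ∀ u : W, (u : T) ∈ Z T 3 →
      (u : W ⧸ N) = 1 ∨ (u : W ⧸ N) = ((⟨z3, hz3W⟩ : W) : W ⧸ N) := by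
    intro u hu
    by_cases h2 : (u : T) ∈ Z T 2
    · exact Or.inl ((QuotientGroup.eq_one_iff u).mpr h2)
    · refine Or.inr (QuotientGroup.eq.mpr ?_)
      have := inv_mem (h.mul_inv_mem (i := 2) (by norm_num) hz3 hz3' hu h2)
      rw [hN, mem_subgroupOf]
      have e : (u : T)⁻¹ * z3 = z3 * (u : T)⁻¹ :=
        (h.central hz3 (inv_mem u.2)).symm
      simp only [coe_mul, coe_inv]
      rw [e]
      simpa using this
  have hthin : Thin (((⟨z3, hz3W⟩ : W) : W ⧸ N)) :=
    { ne_one := fun e => hz3' (by simpa [hN, mem_subgroupOf] using (QuotientGroup.eq_one_iff _).mp e)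
      sq_one := by
        rw [← QuotientGroup.mk_mul, show (⟨z3, hz3W⟩ : W) * ⟨z3, hz3W⟩ = 1 from
          Subtype.ext (h.sq_one hz3)]
        rfl
      central := by
        refine mem_center_iff.mpr fun q => ?_
        induction q using QuotientGroup.induction_on with
        | _ w =>
          rw [← QuotientGroup.mk_mul, ← QuotientGroup.mk_mul]
          exact congrArg _ (Subtype.ext (h.central hz3 w.2).symm)
      sq := fun q => by
        induction q using QuotientGroup.induction_on with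
        | _ w => rw [← QuotientGroup.mk_mul]; exact hdec _ (h.sq_mem w.2)
      comm := fun q r => by
        induction q using QuotientGroup.induction_on with
        | _ u =>
          induction r using QuotientGroup.induction_on with
          | _ v =>
            rw [← QuotientGroup.mk_mul, ← QuotientGroup.mk_mul]
            have hm : ((u * v * u⁻¹ * v⁻¹ : W) : T) ∈ Z T 3 := by
              simpa using h.comm_mem u.2 v.2
            have e : u * v = v * u * (u * v * u⁻¹ * v⁻¹) := by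
              have hc : u * v * u⁻¹ * v⁻¹ * (v * u) = v * u * (u * v * u⁻¹ * v⁻¹) :=
                Subtype.ext (h.central hm (v * u).2)
              rw [← hc]; group
            rcases hdec _ hm with e' | e'
            · left; conv_lhs => rw [e, QuotientGroup.mk_mul, e', mul_one]
            · right; conv_lhs => rw [e, QuotientGroup.mk_mul, e'] }
  obtain ⟨A, hcA, hA⟩ := hthin.exists_avoiding hV hcen5
  have hidx : (A.comap (QuotientGroup.mk' N)).index ≤ 16 := by
    rw [index_comap_of_surjective _ (QuotientGroup.mk'_surjective N)]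
    have e := card_mul_index A
    have e2 := card_eq_card_quotient_mul_card_subgroup N
    rw [hN2, h.base.2.2.1] at e2
    by_contra hlt
    have : 2 ^ 5 * 17 ≤ Nat.card A * A.index := Nat.mul_le_mul hA (by omega)
    omega
  have hmem : (⟨z3, hz3W⟩ : W) ∈ frattini W := by
    have : z3 ∈ (frattini W).map W.subtype := h.base.2.2.2 ▸ hz3
    obtain ⟨w, hw, e⟩ := this
    rwa [show (⟨z3, hz3W⟩ : W) = w from Subtype.ext e.symm]
  exact hcA (h.hd _ hidx hmem)

/-- `Z(W)` is `Φ(W)`, of order 8. -/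
theorem Hyp.center_eq (h : Hyp T W) : center W = frattini W := by
  have hn := h.normal
  obtain ⟨F⟩ := h.exists_frame
  have hle : frattini W ≤ center W := fun x hx => mem_center_iff.mpr fun w => by
    have hx3 : (x : T) ∈ Z T 3 := h.base.2.2.2 ▸ mem_map_of_mem _ hx
    exact Subtype.ext (h.central hx3 w.2).symm
  refine le_antisymm (fun x hx => ?_) hle
  by_contra hnx
  refine h.z4_not_central F fun w hw => ?_
  have hlt : Nat.card (frattini W) < Nat.card (center W) :=
    Nat.lt_of_le_of_ne (card_le_of_le hle) fun e => hnx ((eq_of_le_of_card_ge hle e.ge) ▸ hx)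
  have h8 : Nat.card (frattini W) = 8 := by
    rw [← card_map_of_injective W.subtype_injective, h.base.2.2.2, h.card_Z (by norm_num)]
    norm_num
  obtain ⟨j, hj⟩ := IsPGroup.iff_card.mp (h.isPGroup_W.to_subgroup (center W))
  have h16 : 2 ^ 4 ≤ Nat.card ((center W).map W.subtype) := by
    rw [card_map_of_injective W.subtype_injective, hj]
    refine Nat.pow_le_pow_right (by norm_num) ?_
    rw [hj, h8, show 8 = 2 ^ 3 from rfl, Nat.pow_lt_pow_iff_right (by norm_num)] at hlt
    omega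
  obtain ⟨z, hz, e⟩ := h.le_of_normal le_rfl h16 F.z4_mem
  rw [← e]
  exact congrArg Subtype.val (mem_center_iff.mp hz ⟨w, hw⟩).symm

end Cfsg.Agent.RudvalisType
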