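import Cfsg.Agent.RudvalisType.Series
import Cfsg.Agent.Core.Frattini

/-!
The counting argument: `|T| = 2 ^ 14`, `Φ(W) = W' = Z₃` elementary abelian.
-/

namespace Cfsg.Agent.RudvalisType

open Subgroup
open scoped commutatorElement

variable {T : Type*} [Group T]

/-- A subgroup of index at most two of `W`. -/
structure Half (W U : Subgroup T) : Prop where
  le : U ≤ W
  iff : ∀ a ∈ W, ∀ b ∈ W, (a * b ∈ U ↔ (a ∈ U ↔ b ∈ U))

theorem exists_half [Finite T] {W N : Subgroup T} (hN : N ≤ W) (hsq : ∀ x ∈ W, x * x ∈ N) {z : T}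
    (hzW : z ∈ W) (hz : z ∉ N) : ∃ U : Subgroup T, Half W U ∧ N ≤ U ∧ z ∉ U := by
  obtain ⟨U, hU, hNU, hzU⟩ := exists_index_two (G := W) (N := N.subgroupOf W)
    (fun x => by simpa [mem_subgroupOf, pow_two] using hsq x x.2) (z := ⟨z, hzW⟩)
    (by simpa [mem_subgroupOf] using hz)
  have hmem : ∀ a : W, (a : T) ∈ U.map W.subtype ↔ a ∈ U := fun a =>
    mem_map_iff_mem W.subtype_injective
  refine ⟨U.map W.subtype, ⟨map_subtype_le _, fun a ha b hb => ?_⟩, fun x hx => ?_, fun h => hzU ?_⟩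
  · have h1 := hmem ⟨a, ha⟩
    have h2 := hmem ⟨b, hb⟩
    have h3 := hmem (⟨a, ha⟩ * ⟨b, hb⟩)
    simp only [MulMemClass.coe_mul] at h1 h2 h3
    rw [h1, h2, h3]
    exact mul_mem_iff_of_index_two hU
  · exact (hmem ⟨x, hN hx⟩).mpr (hNU (by simpa [mem_subgroupOf] using hx))
  · exact (hmem ⟨z, hzW⟩).mp h

open Classical in
/-- The indicator of the complement. -/
noncomputable def ind (U : Subgroup T) (x : T) : ZMod 2 := if x ∈ U then 0 else 1

theorem ind_eq_zero {U : Subgroup T} {x : T} : ind U x = 0 ↔ x ∈ U := by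
  by_cases h : x ∈ U <;> simp [ind, h]

theorem ind_of_not {U : Subgroup T} {x : T} (h : x ∉ U) : ind U x = 1 := by simp [ind, h]

variable {W U : Subgroup T}

theorem Half.ind_mul (hU : Half W U) {a b : T} (ha : a ∈ W) (hb : b ∈ W) :
    ind U (a * b) = ind U a + ind U b := by
  have := hU.iff a ha b hb
  by_cases h1 : a ∈ U <;> by_cases h2 : b ∈ U <;> simp [ind, h1, h2, this] <;> decide

theorem Half.conj_mem_iff (hU : Half W U) {w u : T} (hw : w ∈ W) (hu : u ∈ W) :
    w * u * w⁻¹ ∈ U ↔ u ∈ U := by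
  rw [hU.iff _ (mul_mem hw hu) _ (inv_mem hw), hU.iff _ hw _ hu, inv_mem_iff]
  tauto

theorem Half.ind_conj (hU : Half W U) {w u : T} (hw : w ∈ W) (hu : u ∈ W) :
    ind U (w * u * w⁻¹) = ind U u := by
  have := hU.conj_mem_iff hw hu
  by_cases h : u ∈ U <;> simp [ind, h, this]

theorem conjInv_mem (hn : W.Normal) {x : T} (hx : x ∈ W) (t : T) : t⁻¹ * x * t ∈ W := by
  simpa using hn.conj_mem x hx t⁻¹

/-- The coordinates of an element of `W` with respect to conjugates of a half. -/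
noncomputable def psi {ι : Type*} (hn : W.Normal) (hU : Half W U) (rep : ι → T) :
    W →* Multiplicative (ι → ZMod 2) where
  toFun x := Multiplicative.ofAdd fun i => ind U ((rep i)⁻¹ * x * rep i)
  map_one' := by
    rw [← ofAdd_zero]
    refine congrArg _ (funext fun i => ?_)
    simp [ind_eq_zero]
  map_mul' x y := by
    rw [← ofAdd_add]
    refine congrArg _ (funext fun i => ?_)
    rw [Pi.add_apply, ← hU.ind_mul (conjInv_mem hn x.2 _) (conjInv_mem hn y.2 _)]
    congr 1
    simp [mul_assoc]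

theorem psi_apply {ι : Type*} (hn : W.Normal) (hU : Half W U) (rep : ι → T) (x : W) (i : ι) :
    Multiplicative.toAdd (psi hn hU rep x) i = ind U ((rep i)⁻¹ * x * rep i) := rfl

theorem psi_ker_le {ι : Type*} (hn : W.Normal) (hU : Half W U) (rep : ι → T)
    (hrep : ∀ t : T, ∃ i, (rep i)⁻¹ * t ∈ W) :
    (psi hn hU rep).ker.map W.subtype ≤ U.normalCore := by
  rintro x ⟨y, hy, rfl⟩ t
  obtain ⟨i, hi⟩ := hrep t⁻¹
  have h0 : ind U ((rep i)⁻¹ * y * rep i) = 0 := by
    rw [← psi_apply hn hU rep y i, MonoidHom.mem_ker.mp hy]; rfl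
  have := (hU.conj_mem_iff (inv_mem hi) (conjInv_mem hn y.2 _)).mpr (ind_eq_zero.mp h0)
  simpa [mul_assoc] using this

variable [Finite T]

theorem Hyp.normalCore_eq (h : Hyp T W) {k : ℕ} (hk : k < 4) (hkU : Z T k ≤ U) {z : T}
    (hz : z ∈ Z T (k + 1)) (hzU : z ∉ U) : U.normalCore = Z T k := by
  have hle : Z T k ≤ U.normalCore := normal_le_normalCore.mpr hkU
  obtain ⟨j, hj⟩ := IsPGroup.iff_card.mp (h.hT.to_subgroup U.normalCore)
  have h1 : ¬ k + 1 ≤ j := fun e =>
    hzU (normalCore_le U (h.le_of_normal hk (hj ▸ Nat.pow_le_pow_right (by norm_num) e) hz))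
  have h2 := card_le_of_le hle
  rw [h.card_Z hk.le, hj, Nat.pow_le_pow_iff_right (by norm_num)] at h2
  exact h.eq_of_normal hk.le (by rw [hj, show j = k by omega])

theorem Hyp.psi_ker (h : Hyp T W) {k : ℕ} (hk : k < 4) (hU : Half W U) (hkU : Z T k ≤ U) {z : T}
    (hz : z ∈ Z T (k + 1)) (hzU : z ∉ U) {ι : Type*} (rep : ι → T)
    (hrep : ∀ t : T, ∃ i, (rep i)⁻¹ * t ∈ W) (hn : W.Normal) :
    (psi hn hU rep).ker.map W.subtype = Z T k := by
  refine le_antisymm (h.normalCore_eq hk hkU hz hzU ▸ psi_ker_le hn hU rep hrep) fun x hx => ?_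
  refine ⟨⟨x, h.Z_le hk.le hx⟩, MonoidHom.mem_ker.mpr (funext fun i => ?_), rfl⟩
  refine ind_eq_zero.mpr (hkU ?_)
  simpa using Subgroup.Normal.conj_mem inferInstance x hx (rep i)⁻¹

theorem Hyp.card_W_le (h : Hyp T W) {k : ℕ} (hk : k < 4) (hsq : ∀ x ∈ W, x * x ∈ Z T k) :
    Nat.card W ≤ 2 ^ k * 2 ^ W.index := by
  classical
  obtain ⟨z, hz, hz'⟩ := h.exists_gen hk
  obtain ⟨U, hU, hkU, hzU⟩ := exists_half (h.Z_le hk.le) hsq (h.Z_le hk hz) hz'
  have := h.normal
  let ψ := psi h.normal hU (fun q : T ⧸ W => q.out)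
  have hker : Nat.card ψ.ker = 2 ^ k := by
    rw [← card_map_of_injective W.subtype_injective, h.psi_ker hk hU hkU hz hzU _
      (fun t => ⟨(t : T ⧸ W), QuotientGroup.eq.mp (QuotientGroup.out_eq' _)⟩) h.normal,
      h.card_Z hk.le]
  have := card_mul_index ψ.ker
  rw [hker, index_ker] at this
  rw [← this]
  refine Nat.mul_le_mul_left _ (le_trans (card_le_card_group _) (le_of_eq ?_))
  have := Fintype.ofFinite (T ⧸ W)
  rw [index_eq_card, Nat.card_eq_fintype_card (α := T ⧸ W)]
  show Nat.card (T ⧸ W → ZMod 2) = _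
  rw [Nat.card_fun, Nat.card_zmod, Nat.card_eq_fintype_card]

theorem Hyp.base (h : Hyp T W) : Nat.card T = 2 ^ 14 ∧ W.index = 8 ∧ Nat.card W = 2 ^ 11 ∧
    (frattini W).map W.subtype = Z T 3 := by
  have := h.normal
  have hcard : Nat.card ((frattini W).map W.subtype) = Nat.card (frattini W) :=
    card_map_of_injective W.subtype_injective
  obtain ⟨k, hk⟩ := IsPGroup.iff_card.mp (h.hT.to_subgroup ((frattini W).map W.subtype))
  have hk3 : k ≤ 3 := by
    have h8 : 2 ^ k ≤ 2 ^ 3 := by rw [← hk, hcard]; exact h.hc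
    exact (Nat.pow_le_pow_iff_right (by norm_num)).mp h8
  have hN := h.eq_of_normal (show k ≤ 4 by omega) hk
  have hb := h.card_W_le (k := k) (by omega) fun x hx => by
    have : (⟨x, hx⟩ : W) ^ 2 ∈ frattini W := Core.pow_mem_frattini h.isPGroup_W _
    rw [← hN]
    exact ⟨_, this, by simp [pow_two]⟩
  obtain ⟨e, he⟩ := h.hT.index W
  have he3 : e ≤ 3 := by
    have h8 : 2 ^ e ≤ 2 ^ 3 := by rw [← he]; exact h.index_le
    exact (Nat.pow_le_pow_iff_right (by norm_num)).mp h8
  have hm : Nat.card W * W.index = Nat.card T := card_mul_index W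
  have ha := h.ha
  rw [he] at hb hm
  have he' : e = 3 := by
    by_contra hne
    interval_cases e <;> interval_cases k <;> simp only [Nat.reducePow] at hb hm ha <;> omega
  subst he'
  norm_num at hb hm ha
  have hk' : k = 3 := by
    interval_cases k <;> omega
  subst hk'
  exact ⟨by omega, by rw [he]; norm_num, by omega, hN⟩

theorem exists_small_index {G : Type*} [Group G] [Finite G] {N P : Subgroup G}
    (hcomm : ∀ a b : G, a * b * a⁻¹ * b⁻¹ ∈ N) (hsq : ∀ x : G, x * x ∈ P) {z : G} (hz : z ∉ N) :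
    ∃ U : Subgroup G, z ∉ U ∧ U.index ≤ Nat.card P * 2 := by
  classical
  obtain ⟨U, ⟨hNU, hzU⟩, hmax⟩ :=
    (Set.toFinite {U : Subgroup G | N ≤ U ∧ z ∉ U}).exists_maximal ⟨N, le_rfl, hz⟩
  have : U.Normal := ⟨fun n hn g => by
    have e : g * n * g⁻¹ = g * n * g⁻¹ * n⁻¹ * n := by group
    rw [e]
    exact mul_mem (hNU (hcomm g n)) hn⟩
  have hc : ∀ a b : G ⧸ U, a * b = b * a := by
    intro a b
    induction a using QuotientGroup.induction_on with
    | _ a =>
      induction b using QuotientGroup.induction_on with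
      | _ b =>
        rw [← QuotientGroup.mk_mul, ← QuotientGroup.mk_mul, QuotientGroup.eq]
        have := hNU (hcomm b⁻¹ a⁻¹)
        simpa [mul_assoc] using this
  refine ⟨U, hzU, ?_⟩
  let root : P → G ⧸ U := fun p =>
    if h : ∃ r : G ⧸ U, r * r = (p : G) then h.choose else 1
  let g : P × Bool → G ⧸ U := fun p => root p.1 * (if p.2 then (z : G ⧸ U) else 1)
  have hinv : ∀ q : G ⧸ U, q * q = 1 → q = 1 ∨ q = (z : G ⧸ U) := by
    intro q hq
    induction q using QuotientGroup.induction_on with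
    | _ x =>
      by_cases hx : x ∈ U
      · exact Or.inl ((QuotientGroup.eq_one_iff x).mpr hx)
      right
      have hzx : z ∈ U ⊔ zpowers x := by
        by_contra h
        exact hx (hmax ⟨hNU.trans le_sup_left, h⟩ le_sup_left (mem_sup_right (mem_zpowers x)))
      obtain ⟨u, hu, v, hv, rfl⟩ := mem_sup_of_normal_left.mp hzx
      obtain ⟨n, rfl⟩ := hv
      rw [QuotientGroup.mk_mul, (QuotientGroup.eq_one_iff u).mpr hu, one_mul]
      show (x : G ⧸ U) = ((x ^ n : G) : G ⧸ U)
      rw [QuotientGroup.mk_zpow]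
      rcases Int.even_or_odd' n with ⟨j, rfl | rfl⟩
      · refine absurd (mul_mem hu ?_) hzU
        show x ^ (2 * j) ∈ U
        rw [← QuotientGroup.eq_one_iff, QuotientGroup.mk_zpow, zpow_mul, zpow_ofNat, pow_two, hq,
          one_zpow]
      · rw [zpow_add_one, zpow_mul, zpow_ofNat, pow_two, hq, one_zpow, one_mul]
  have hg : Function.Surjective g := by
    intro q
    obtain ⟨x, rfl⟩ := QuotientGroup.mk_surjective q
    have hex : ∃ r : G ⧸ U, r * r = ((x * x : G) : G ⧸ U) := ⟨x, rfl⟩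
    have hr : root ⟨x * x, hsq x⟩ * root ⟨x * x, hsq x⟩ = (x : G ⧸ U) * x := by
      simp only [root, dif_pos hex]
      exact hex.choose_spec
    set r := root ⟨x * x, hsq x⟩ with hrdef
    have : r⁻¹ * x * (r⁻¹ * x) = 1 := by
      calc r⁻¹ * (x : G ⧸ U) * (r⁻¹ * x) = r⁻¹ * ((x : G ⧸ U) * r⁻¹) * x := by simp [mul_assoc]
        _ = r⁻¹ * (r⁻¹ * x) * x := by rw [hc (x : G ⧸ U) r⁻¹]
        _ = (r * r)⁻¹ * ((x : G ⧸ U) * x) := by simp [mul_assoc]
        _ = 1 := by rw [hr, inv_mul_cancel]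
    rcases hinv _ this with e | e
    · exact ⟨(⟨_, hsq x⟩, false), by simpa [g, ← hrdef, inv_mul_eq_one] using e⟩
    · refine ⟨(⟨_, hsq x⟩, true), ?_⟩
      simp only [g, ← hrdef, if_true, ← e, mul_inv_cancel_left]
  have := Nat.card_le_card_of_surjective g hg
  rw [Nat.card_prod] at this
  simpa [index_eq_card] using this

theorem Hyp.commutator_eq (h : Hyp T W) : commutator W = frattini W := by
  have := h.isPGroup_W.isNilpotent
  refine le_antisymm Core.commutator_le_frattini fun z hz => ?_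
  by_contra hn
  obtain ⟨U, hzU, hU⟩ := exists_small_index (N := commutator W) (P := frattini W)
    (fun a b => by
      have := commutator_mem_commutator (mem_top a) (mem_top b)
      simpa [commutator_def, commutatorElement_def] using this)
    (fun x => by simpa [pow_two] using Core.pow_mem_frattini h.isPGroup_W x) hn
  exact hzU (h.hd U (hU.trans (by have := h.hc; omega)) hz)

/-- `W' = Z₃`. -/
theorem Hyp.map_commutator (h : Hyp T W) : (commutator W).map W.subtype = Z T 3 := by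
  rw [h.commutator_eq]; exact h.base.2.2.2

theorem Hyp.sq_mem (h : Hyp T W) {x : T} (hx : x ∈ W) : x * x ∈ Z T 3 := by
  rw [← h.base.2.2.2]
  exact ⟨⟨x, hx⟩ ^ 2, Core.pow_mem_frattini h.isPGroup_W _, by simp [pow_two]⟩

theorem Hyp.comm_mem (h : Hyp T W) {x y : T} (hx : x ∈ W) (hy : y ∈ W) :
    x * y * x⁻¹ * y⁻¹ ∈ Z T 3 := by
  rw [← h.map_commutator]
  refine ⟨⁅(⟨x, hx⟩ : W), (⟨y, hy⟩ : W)⁆, ?_, by simp [commutatorElement_def]⟩
  exact commutator_mem_commutator (mem_top _) (mem_top _)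

theorem Hyp.central (h : Hyp T W) {z x : T} (hz : z ∈ Z T 3) (hx : x ∈ W) : z * x = x * z :=
  h.mem_W_iff.mp hx z hz

theorem Hyp.sq_one (h : Hyp T W) {z : T} (hz : z ∈ Z T 3) : z * z = 1 := by
  let K : Subgroup W :=
    { carrier := {c | c ∈ center W ∧ c * c = 1}
      one_mem' := ⟨one_mem _, one_mul 1⟩
      mul_mem' := fun {a b} ha hb => ⟨mul_mem ha.1 hb.1, by
        calc a * b * (a * b) = a * (b * a) * b := by simp [mul_assoc]
          _ = a * (a * b) * b := by rw [mem_center_iff.mp ha.1 b]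
          _ = a * a * (b * b) := by simp [mul_assoc]
          _ = 1 := by rw [ha.2, hb.2, one_mul]⟩
      inv_mem' := fun {a} ha => ⟨inv_mem ha.1, by rw [← mul_inv_rev, ha.2, inv_one]⟩ }
  have hle : commutator W ≤ K := by
    rw [commutator_def, commutator_le]
    intro x _ y _
    rw [commutatorElement_def]
    set c := x * y * x⁻¹ * y⁻¹ with hc
    have hcen : ∀ {g : W}, (g : T) ∈ Z T 3 → g ∈ center W := fun {g} hg =>
      mem_center_iff.mpr fun w => Subtype.ext (h.central hg w.2).symm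
    have h1 : c ∈ center W := hcen (by simpa [hc] using h.comm_mem x.2 y.2)
    have h2 : x * x ∈ center W := hcen (by simpa using h.sq_mem x.2)
    refine ⟨h1, ?_⟩
    have e1 : x * y = c * (y * x) := by simp [hc, mul_assoc]
    have e2 : c * c * (y * (x * x)) = y * (x * x) := by
      calc c * c * (y * (x * x)) = c * (c * (y * x)) * x := by simp [mul_assoc]
        _ = c * (x * y) * x := by rw [← e1]
        _ = x * (c * (y * x)) := by
          rw [← mul_assoc c x y, ← mem_center_iff.mp h1 x]; simp [mul_assoc]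
        _ = x * x * y := by rw [← e1, ← mul_assoc]
        _ = y * (x * x) := (mem_center_iff.mp h2 y).symm
    exact mul_eq_right.mp e2
  rw [← h.map_commutator] at hz
  obtain ⟨c, hc, rfl⟩ := hz
  simpa using congrArg W.subtype (hle hc).2

theorem Hyp.card_quot (h : Hyp T W) : Nat.card (W ⧸ commutator W) = 2 ^ 8 := by
  have e1 : Nat.card (commutator W) = 2 ^ 3 := by
    rw [← card_map_of_injective W.subtype_injective, h.map_commutator, h.card_Z (by norm_num)]
  have := card_eq_card_quotient_mul_card_subgroup (commutator W)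
  rw [e1, h.base.2.2.1] at this
  omega

end Cfsg.Agent.RudvalisType
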