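import Cfsg.Agent.RudvalisType.Bits

/-!
`W / Z₃` is the regular module of `T / W`: coordinates by conjugates of a half, and a generator.
-/

namespace Cfsg.Agent.RudvalisType

open Subgroup

variable {T : Type*} [Group T] [Finite T] {W : Subgroup T}

/-- A generator `x₀` of `W` as a `T`-group modulo `Z₃`, with dual half `U`. -/
structure Frame (W : Subgroup T) extends Coord W where
  /-- The half. -/
  U : Subgroup T
  half : Half W U
  Z3_le : Z T 3 ≤ U
  /-- An element of `Z₄` outside `U`. -/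
  z4 : T
  z4_mem : z4 ∈ Z T 4
  z4_not : z4 ∉ U
  /-- The generator. -/
  x0 : T
  x0_mem : x0 ∈ W
  delta : ∀ t, ind U (t⁻¹ * x0 * t) = if β t = 0 then 1 else 0
  ker : ∀ x ∈ W, (∀ t, t⁻¹ * x * t ∈ U) → x ∈ Z T 3

theorem Hyp.exists_frame (h : Hyp T W) : Nonempty (Frame W) := by
  classical
  have hn := h.normal
  obtain ⟨C⟩ := h.exists_coord
  obtain ⟨z, hz, hz'⟩ := h.exists_gen (i := 3) (by norm_num)
  obtain ⟨U, hU, hkU, hzU⟩ := exists_half (h.Z_le (by norm_num)) (fun x hx => h.sq_mem hx)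
    (h.Z_le (by norm_num) hz) hz'
  let rep := Function.surjInv C.surj
  have hrep : ∀ t : T, ∃ i, (rep i)⁻¹ * t ∈ W := fun t =>
    ⟨C.β t, C.eq_iff.mp (Function.surjInv_eq C.surj _)⟩
  let ψ := psi hn hU rep
  have hker := h.psi_ker (by norm_num) hU hkU hz hzU rep hrep hn
  have hcardker : Nat.card ψ.ker = 2 ^ 3 := by
    rw [← card_map_of_injective W.subtype_injective, hker, h.card_Z (by norm_num)]
  have hsurj : Function.Surjective ψ := by
    refine MonoidHom.range_eq_top.mp (eq_top_of_card_eq _ ?_)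
    have e := card_mul_index ψ.ker
    rw [hcardker, index_ker, h.base.2.2.1] at e
    show Nat.card ψ.range = Nat.card (Bits → ZMod 2)
    have hb : Nat.card Bits = 8 := by simp [Nat.card_prod]
    rw [Nat.card_fun, Nat.card_zmod, hb]
    norm_num at e ⊢
    omega
  obtain ⟨x0, hx0⟩ := hsurj (Multiplicative.ofAdd fun k => if k = 0 then (1 : ZMod 2) else 0)
  have hrep' : ∀ (x : W) (t : T), ind U (t⁻¹ * x * t) = ind U ((rep (C.β t))⁻¹ * x * rep (C.β t)) := by
    intro x t
    set r := rep (C.β t)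
    have hw : r⁻¹ * t ∈ W := C.eq_iff.mp (Function.surjInv_eq C.surj _)
    rw [show t⁻¹ * x * t = (r⁻¹ * t)⁻¹ * (r⁻¹ * x * r) * ((r⁻¹ * t)⁻¹)⁻¹ by group]
    exact hU.ind_conj (inv_mem hw) (conjInv_mem hn x.2 r)
  refine ⟨{ toCoord := C, U := U, half := hU, Z3_le := hkU, z4 := z, z4_mem := hz, z4_not := hzU,
            x0 := x0, x0_mem := x0.2, delta := fun t => ?_, ker := fun x hx hall => ?_ }⟩
  · rw [hrep' x0 t, ← psi_apply hn hU rep x0 (C.β t)]
    rw [show psi hn hU rep x0 = _ from hx0]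
    rfl
  · rw [← hker]
    exact ⟨⟨x, hx⟩, MonoidHom.mem_ker.mpr (funext fun i => ind_eq_zero.mpr (hall _)), rfl⟩

theorem Frame.ind_conj (F : Frame W) (hn : W.Normal) {x s t : T} (hx : x ∈ W)
    (e : F.β s = F.β t) : ind F.U (s⁻¹ * x * s) = ind F.U (t⁻¹ * x * t) := by
  have hw : s⁻¹ * t ∈ W := F.eq_iff.mp e
  rw [show t⁻¹ * x * t = (s⁻¹ * t)⁻¹ * (s⁻¹ * x * s) * ((s⁻¹ * t)⁻¹)⁻¹ by group]
  exact (F.half.ind_conj (inv_mem hw) (conjInv_mem hn hx s)).symm

/-- A representative of given coordinates. -/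
noncomputable def Frame.rep (F : Frame W) : Bits → T := Function.surjInv F.surj

theorem Frame.β_rep (F : Frame W) (k : Bits) : F.β (F.rep k) = k := Function.surjInv_eq F.surj k

/-- A subgroup containing `Z₃` and all conjugates of `x₀` contains `W`. -/
theorem Frame.gen (h : Hyp T W) (F : Frame W) {H : Subgroup T} (h3 : Z T 3 ≤ H)
    (hconj : ∀ t, t * F.x0 * t⁻¹ ∈ H) : W ≤ H := by
  classical
  have hn := h.normal
  suffices ∀ n, ∀ x ∈ W,
      (Finset.univ.filter fun k => ind F.U ((F.rep k)⁻¹ * x * F.rep k) ≠ 0).card = n → x ∈ H from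
    fun x hx => this _ x hx rfl
  intro n
  induction n with
  | zero =>
    intro x hx hc
    refine h3 (F.ker x hx fun t => ind_eq_zero.mp ?_)
    rw [F.ind_conj hn hx (F.β_rep (F.β t)).symm]
    by_contra hne
    have : F.β t ∈ (∅ : Finset Bits) := by
      rw [← Finset.card_eq_zero.mp hc]; simpa using hne
    simp at this
  | succ n ih =>
    intro x hx hc
    obtain ⟨q, hq⟩ := Finset.card_pos.mp (by omega :
      0 < (Finset.univ.filter fun k => ind F.U ((F.rep k)⁻¹ * x * F.rep k) ≠ 0).card)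
    set r := F.rep q
    set y := r * F.x0 * r⁻¹
    have hy : y ∈ W := hn.conj_mem _ F.x0_mem r
    have hval : ∀ k, ind F.U ((F.rep k)⁻¹ * (y * x) * F.rep k) =
        (if k = q then 1 else 0) + ind F.U ((F.rep k)⁻¹ * x * F.rep k) := by
      intro k
      rw [show (F.rep k)⁻¹ * (y * x) * F.rep k =
        (r⁻¹ * F.rep k)⁻¹ * F.x0 * (r⁻¹ * F.rep k) * ((F.rep k)⁻¹ * x * F.rep k) by
          simp [y, mul_assoc],
        F.half.ind_mul (conjInv_mem hn F.x0_mem _) (conjInv_mem hn hx _), F.delta]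
      congr 2
      rw [F.eq_zero, ← F.eq_iff, show F.β r = q from F.β_rep q, F.β_rep, eq_comm]
      exact propext eq_comm
    have hyx : y * x ∈ H := by
      refine ih _ (mul_mem hy hx) ?_
      have he : (Finset.univ.filter fun k => ind F.U ((F.rep k)⁻¹ * (y * x) * F.rep k) ≠ 0) =
          (Finset.univ.filter fun k => ind F.U ((F.rep k)⁻¹ * x * F.rep k) ≠ 0).erase q := by
        ext k
        simp only [Finset.mem_filter, Finset.mem_univ, true_and, Finset.mem_erase, hval]
        rcases eq_or_ne k q with rfl | hk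
        · simp only [Finset.mem_filter, Finset.mem_univ, true_and] at hq
          have : ∀ a : ZMod 2, a ≠ 0 → 1 + a = 0 := by decide
          simp [this _ hq]
        · simp [hk]
      rw [he, Finset.card_erase_of_mem hq, hc, Nat.add_sub_cancel]
    have := mul_mem (inv_mem (hconj r)) hyx
    rwa [show (r * F.x0 * r⁻¹)⁻¹ * (y * x) = x from inv_mul_cancel_left _ _] at this

end Cfsg.Agent.RudvalisType
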