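import Cfsg.Agent.RudvalisType.Basic

/-!
The upper central series of a 2-group in which `Z₄` has order 16, the centraliser `W` of `Z₃`,
and the counting argument giving `|T| = 2 ^ 14`.
-/

namespace Cfsg.Agent.RudvalisType

open Subgroup

variable {T : Type*} [Group T]

/-- The upper central series. -/
abbrev Z (T : Type*) [Group T] (n : ℕ) : Subgroup T := Subgroup.upperCentralSeries T n

theorem comm_mem_of_mem_succ {n : ℕ} {x : T} (h : x ∈ Z T (n + 1)) (y : T) :
    x * y * x⁻¹ * y⁻¹ ∈ Z T n := by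
  simpa [commutatorElement_def] using Subgroup.mem_upperCentralSeries_succ_iff.mp h y

theorem conj_mul_inv_mem {n : ℕ} {x : T} (h : x ∈ Z T (n + 1)) (y : T) :
    y * x * y⁻¹ * x⁻¹ ∈ Z T n := by
  have := inv_mem (comm_mem_of_mem_succ h y)
  simpa [mul_assoc] using this

theorem exists_meet [Finite T] (hT : IsPGroup 2 T) {N : Subgroup T} [N.Normal] {n : ℕ}
    (h : ¬ N ≤ Z T n) : ∃ x ∈ N, x ∈ Z T (n + 1) ∧ x ∉ Z T n := by
  classical
  have := hT.isNilpotent
  obtain ⟨m, hm⟩ := Group.IsNilpotent.nilpotent T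
  obtain ⟨a, ha, han⟩ := SetLike.not_le_iff_exists.mp h
  have hex : ∃ k, ∃ x ∈ N, x ∈ Z T k ∧ x ∉ Z T n := ⟨m, a, ha, by
    show a ∈ Subgroup.upperCentralSeries T m
    rw [hm]; exact mem_top _, han⟩
  obtain ⟨x, hxN, hxk, hxn⟩ := Nat.find_spec hex
  rcases Nat.eq_zero_or_pos (Nat.find hex) with h0 | hpos
  · refine absurd ?_ hxn
    have : Z T (Nat.find hex) ≤ Z T n :=
      Subgroup.upperCentralSeries_mono T (by omega)
    exact this hxk
  obtain ⟨j, hj⟩ : ∃ j, Nat.find hex = j + 1 := ⟨Nat.find hex - 1, by omega⟩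
  refine ⟨x, hxN, Subgroup.mem_upperCentralSeries_succ_iff.mpr fun y => ?_, hxn⟩
  rw [hj] at hxk
  by_contra hy
  refine Nat.find_min hex (m := j) (by omega)
    ⟨_, ?_, Subgroup.mem_upperCentralSeries_succ_iff.mp hxk y, hy⟩
  rw [commutatorElement_def, show x * y * x⁻¹ * y⁻¹ = x * (y * x⁻¹ * y⁻¹) by group]
  exact mul_mem hxN (Subgroup.Normal.conj_mem inferInstance _ (inv_mem hxN) y)

theorem two_mul_card_le [Finite T] (hT : IsPGroup 2 T) {n : ℕ} (h : Z T n ≠ ⊤) :
    2 * Nat.card (Z T n) ≤ Nat.card (Z T (n + 1)) := by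
  obtain ⟨x, -, hx1, hx⟩ := exists_meet hT (N := ⊤) (n := n) fun e => h (top_le_iff.mp e)
  have hle : Z T n ≤ Z T (n + 1) := Subgroup.upperCentralSeries_mono T (Nat.le_succ n)
  obtain ⟨q, hq⟩ := card_dvd_of_le hle
  rcases q with - | - | q
  · have := Nat.card_pos (α := Z T (n + 1))
    omega
  · exact absurd (eq_of_le_of_card_ge hle (by omega) ▸ hx1) hx
  · rw [hq]; nlinarith [Nat.card_pos (α := Z T n)]

/-- The hypotheses on `T` and `W`. -/
structure Hyp (T : Type*) [Group T] (W : Subgroup T) : Prop where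
  hT : IsPGroup 2 T
  ha : 2 ^ 14 ≤ Nat.card T
  hb : Nat.card (Z T 4) = 16
  hW : W = centralizer ((Z T 3 : Subgroup T) : Set T)
  hc : Nat.card (frattini W) ≤ 8
  hd : ∀ U : Subgroup W, U.index ≤ 16 → frattini W ≤ U

variable [Finite T] {W : Subgroup T}

theorem Hyp.normal (h : Hyp T W) : W.Normal := by
  rw [h.hW]; infer_instance

theorem Hyp.card_Z (h : Hyp T W) {i : ℕ} (hi : i ≤ 4) : Nat.card (Z T i) = 2 ^ i := by
  have hne : ∀ j ≤ 4, Z T j ≠ ⊤ := fun j hj e => by
    have h1 : Nat.card (Z T j) ≤ Nat.card (Z T 4) :=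
      card_le_of_le (Subgroup.upperCentralSeries_mono T hj)
    rw [e, card_top, h.hb] at h1
    have := h.ha
    omega
  have h0 : Nat.card (Z T 0) = 1 := by
    show Nat.card (Subgroup.upperCentralSeries T 0) = 1
    rw [Subgroup.upperCentralSeries_zero, card_bot]
  have s0 := two_mul_card_le h.hT (hne 0 (by omega))
  have s1 := two_mul_card_le h.hT (hne 1 (by omega))
  have s2 := two_mul_card_le h.hT (hne 2 (by omega))
  have s3 := two_mul_card_le h.hT (hne 3 (by omega))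
  have := h.hb
  norm_num at s0 s1 s2 s3
  interval_cases i <;> norm_num <;> omega

theorem Hyp.le_of_normal (h : Hyp T W) {N : Subgroup T} [N.Normal] {i : ℕ} (hi : i ≤ 4)
    (hN : 2 ^ i ≤ Nat.card N) : Z T i ≤ N := by
  induction i with
  | zero =>
    show Subgroup.upperCentralSeries T 0 ≤ N
    rw [Subgroup.upperCentralSeries_zero]
    exact bot_le
  | succ i ih =>
    have hlt : 2 ^ i < 2 ^ (i + 1) := Nat.pow_lt_pow_right (by norm_num) (by omega)
    have hi' := ih (by omega) (by omega)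
    obtain ⟨x, hxN, hx1, hx⟩ := exists_meet h.hT (N := N) (n := i) fun e => by
      have := card_le_of_le e
      rw [h.card_Z (by omega)] at this
      omega
    have hle : N ⊓ Z T (i + 1) = Z T (i + 1) := by
      refine eq_of_le_of_lt_card inf_le_right (h.card_Z hi) ?_
      rw [← h.card_Z (show i ≤ 4 by omega)]
      refine Nat.lt_of_le_of_ne (card_le_of_le (le_inf hi' (Subgroup.upperCentralSeries_mono T i.le_succ)))
        fun e => hx ?_
      have := eq_of_le_of_card_ge (le_inf hi' (Subgroup.upperCentralSeries_mono T i.le_succ)) e.ge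
      exact this.ge ⟨hxN, hx1⟩
    exact hle ▸ inf_le_left

theorem Hyp.eq_of_normal (h : Hyp T W) {N : Subgroup T} [N.Normal] {i : ℕ} (hi : i ≤ 4)
    (hN : Nat.card N = 2 ^ i) : N = Z T i :=
  (eq_of_le_of_card_ge (h.le_of_normal hi hN.ge) (by rw [hN, h.card_Z hi])).symm

theorem Hyp.lift (h : Hyp T W) {H : Subgroup T} {i : ℕ} (hi : i < 4) (hH : Z T i ≤ H) {x : T}
    (hxH : x ∈ H) (hx1 : x ∈ Z T (i + 1)) (hx : x ∉ Z T i) : Z T (i + 1) ≤ H := by
  have hle : H ⊓ Z T (i + 1) = Z T (i + 1) := by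
    refine eq_of_le_of_lt_card inf_le_right (h.card_Z hi) ?_
    rw [← h.card_Z hi.le]
    refine Nat.lt_of_le_of_ne (card_le_of_le (le_inf hH (Subgroup.upperCentralSeries_mono T i.le_succ)))
      fun e => hx ?_
    exact (eq_of_le_of_card_ge (le_inf hH (Subgroup.upperCentralSeries_mono T i.le_succ)) e.ge).ge
      ⟨hxH, hx1⟩
  exact hle ▸ inf_le_left

theorem Hyp.exists_gen (h : Hyp T W) {i : ℕ} (hi : i < 4) :
    ∃ x, x ∈ Z T (i + 1) ∧ x ∉ Z T i := by
  refine SetLike.not_le_iff_exists.mp fun e => ?_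
  have := card_le_of_le e
  rw [h.card_Z hi.le, h.card_Z hi, Nat.pow_le_pow_iff_right (by norm_num)] at this
  omega

theorem Hyp.mul_inv_mem (h : Hyp T W) {i : ℕ} (hi : i < 4) {x y : T} (hx1 : x ∈ Z T (i + 1))
    (hx : x ∉ Z T i) (hy1 : y ∈ Z T (i + 1)) (hy : y ∉ Z T i) : y * x⁻¹ ∈ Z T i := by
  have hidx : ((Z T i).subgroupOf (Z T (i + 1))).index = 2 := by
    have e := card_mul_index ((Z T i).subgroupOf (Z T (i + 1)))
    rw [Nat.card_congr (subgroupOfEquivOfLe (Subgroup.upperCentralSeries_mono T i.le_succ)).toEquiv,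
      h.card_Z hi.le, h.card_Z hi, pow_succ] at e
    exact Nat.eq_of_mul_eq_mul_left (Nat.two_pow_pos i) e
  have := (mul_mem_iff_of_index_two hidx (a := ⟨y, hy1⟩) (b := ⟨x, hx1⟩⁻¹)).mpr
    (by simp [mem_subgroupOf, hx, hy])
  simpa [mem_subgroupOf] using this

theorem Hyp.mem_W_iff (h : Hyp T W) {t : T} :
    t ∈ W ↔ ∀ z ∈ Z T 3, z * t = t * z := by
  rw [h.hW]; exact mem_centralizer_iff

theorem Z_one_comm {z : T} (hz : z ∈ Z T 1) (t : T) : z * t = t * z := by
  have : z ∈ center T := by rwa [← Subgroup.upperCentralSeries_one]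
  exact (mem_center_iff.mp this t).symm

/-- An element commuting with representatives of `Z₂ ∖ Z₁` and `Z₃ ∖ Z₂` lies in `W`. -/
theorem Hyp.mem_W_of_gen (h : Hyp T W) {z2 z3 : T} (h2 : z2 ∈ Z T 2) (h2' : z2 ∉ Z T 1)
    (h3 : z3 ∈ Z T 3) (h3' : z3 ∉ Z T 2) {t : T} (e2 : t * z2 * t⁻¹ = z2)
    (e3 : t * z3 * t⁻¹ = z3) : t ∈ W := by
  refine h.mem_W_iff.mpr fun z hz => ?_
  have l1 : Z T 1 ≤ centralizer ({t} : Set T) := fun z hz =>
    mem_centralizer_singleton_iff.mpr (Z_one_comm hz t)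
  have l2 := h.lift (by norm_num) l1 (x := z2)
    (mem_centralizer_singleton_iff.mpr (mul_inv_eq_iff_eq_mul.mp e2).symm) h2 h2'
  have l3 := h.lift (by norm_num) l2 (x := z3)
    (mem_centralizer_singleton_iff.mpr (mul_inv_eq_iff_eq_mul.mp e3).symm) h3 h3'
  exact mem_centralizer_singleton_iff.mp (l3 hz)

theorem Hyp.index_le (h : Hyp T W) : W.index ≤ 8 := by
  classical
  obtain ⟨z2, h2, h2'⟩ := h.exists_gen (i := 1) (by norm_num)
  obtain ⟨z3, h3, h3'⟩ := h.exists_gen (i := 2) (by norm_num)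
  let f : T ⧸ W → Z T 1 × Z T 2 := fun q =>
    (⟨_, conj_mul_inv_mem h2 q.out⟩, ⟨_, conj_mul_inv_mem h3 q.out⟩)
  have hf : Function.Injective f := by
    intro q r e
    simp only [f, Prod.mk.injEq, Subtype.mk.injEq] at e
    obtain ⟨e2, e3⟩ := e
    rw [← QuotientGroup.out_eq' q, ← QuotientGroup.out_eq' r, QuotientGroup.eq]
    refine h.mem_W_of_gen h2 h2' h3 h3' ?_ ?_
    · rw [show q.out⁻¹ * r.out * z2 * (q.out⁻¹ * r.out)⁻¹ =
        q.out⁻¹ * (r.out * z2 * r.out⁻¹ * z2⁻¹) * z2 * q.out by group, ← e2]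
      group
    · rw [show q.out⁻¹ * r.out * z3 * (q.out⁻¹ * r.out)⁻¹ =
        q.out⁻¹ * (r.out * z3 * r.out⁻¹ * z3⁻¹) * z3 * q.out by group, ← e3]
      group
  have := Nat.card_le_card_of_injective f hf
  rw [Nat.card_prod, h.card_Z (by norm_num), h.card_Z (by norm_num)] at this
  rw [index_eq_card]
  norm_num at this ⊢
  exact this

theorem Hyp.Z_le (h : Hyp T W) {i : ℕ} (hi : i ≤ 4) : Z T i ≤ W := by
  have := h.normal
  refine h.le_of_normal hi ?_
  have h1 : Nat.card W * W.index = Nat.card T := card_mul_index W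
  have h2 : 2 ^ i ≤ 2 ^ 4 := Nat.pow_le_pow_right (by norm_num) hi
  have := h.ha
  have := h.index_le
  nlinarith

theorem Hyp.isPGroup_W (h : Hyp T W) : IsPGroup 2 W := h.hT.to_subgroup W

/-- `hd` for subgroups of `T`. -/
theorem Hyp.hd' (h : Hyp T W) {U : Subgroup T} (hU : U ≤ W)
    (hcard : Nat.card W ≤ 16 * Nat.card U) : (frattini W).map W.subtype ≤ U := by
  have e : Nat.card U * (U.subgroupOf W).index = Nat.card W := by
    rw [← Nat.card_congr (subgroupOfEquivOfLe hU).toEquiv, card_mul_index]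
  have hle : (U.subgroupOf W).index ≤ 16 := by
    by_contra hlt
    have := Nat.card_pos (α := U)
    nlinarith
  exact (map_mono (h.hd _ hle)).trans (map_comap_le _ _)

end Cfsg.Agent.RudvalisType
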